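import Mathlib

/-!
Pronormal subgroups of transitive groups: basic facts about the fixed set `F` of `K`, its translates,
and the flats `D Y` (intersections of all translates containing `Y`).
-/

set_option autoImplicit false
set_option linter.unusedSectionVars false
set_option linter.style.haveILetI false

open scoped Pointwise

namespace Cfsg.Agent.HalfFixed36

/-- `K` and each of its conjugates are conjugate inside the subgroup they generate. -/
def Pro {G : Type*} [Group G] (K : Subgroup G) : Prop :=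
  ∀ g : G, ∃ w ∈ K ⊔ K.map (MulAut.conj g).toMonoidHom,
    K.map (MulAut.conj w).toMonoidHom = K.map (MulAut.conj g).toMonoidHom

/-- The bound for all transitive actions of degree `< m`. -/
def HalfBelow (m : ℕ) : Prop :=
  ∀ (G Ω : Type) [Group G] [MulAction G Ω] [Fintype Ω] [DecidableEq Ω], Fintype.card Ω < m →
    MulAction.IsPretransitive G Ω → ∀ (K : Subgroup G) (F : Finset Ω),
      (∀ a, a ∈ F ↔ ∀ k ∈ K, k • a = a) → (∃ z, z ∉ F) → Pro K → 2 * F.card + 1 ≤ Fintype.card Ω

/-- The data of a minimal counterexample. -/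
structure Ctx (G Ω : Type) [Group G] [MulAction G Ω] [Fintype Ω] [DecidableEq Ω] where
  K : Subgroup G
  F : Finset Ω
  hF : ∀ a, a ∈ F ↔ ∀ k ∈ K, k • a = a
  moved : ∃ z, z ∉ F
  pro : Pro K
  trans : MulAction.IsPretransitive G Ω
  ih : HalfBelow (Fintype.card Ω)
  big : Fintype.card Ω ≤ 2 * F.card

namespace Ctx

variable {G Ω : Type} [Group G] [MulAction G Ω] [Fintype Ω] [DecidableEq Ω] (C : Ctx G Ω)

/-- pointwise stabiliser -/
def fix (Y : Finset Ω) : Subgroup G := fixingSubgroup G (↑Y : Set Ω)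

lemma mem_fix {Y : Finset Ω} {h : G} : h ∈ fix Y ↔ ∀ y ∈ Y, h • y = y := by
  simp [fix, mem_fixingSubgroup_iff]

lemma fix_anti {Y Y' : Finset Ω} (h : Y ⊆ Y') : fix (G := G) Y' ≤ fix Y :=
  fun _g hg => mem_fix.2 fun y hy => mem_fix.1 hg y (h hy)

lemma fix_smul_finset {Y : Finset Ω} {h : G} (hh : h ∈ fix Y) : h • Y = Y := by
  ext z
  rw [Finset.mem_smul_finset]
  constructor
  · rintro ⟨y, hy, rfl⟩; rwa [mem_fix.1 hh y hy]
  · intro hz; exact ⟨z, hz, mem_fix.1 hh z hz⟩

lemma K_le_fix {Y : Finset Ω} (hY : Y ⊆ C.F) : C.K ≤ fix Y :=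
  fun k hk => mem_fix.2 fun y hy => (C.hF y).1 (hY hy) k hk

lemma mem_smulF {g : G} {z : Ω} :
    z ∈ g • C.F ↔ ∀ k ∈ C.K.map (MulAut.conj g).toMonoidHom, k • z = z := by
  rw [← Finset.inv_smul_mem_iff, C.hF]
  constructor
  · rintro h _ ⟨k, hk, rfl⟩
    have := h k hk
    simp only [MulEquiv.coe_toMonoidHom, MulAut.conj_apply, mul_smul]
    rw [this, smul_inv_smul]
  · intro h k hk
    have := h _ (Subgroup.mem_map_of_mem _ hk)
    simp only [MulEquiv.coe_toMonoidHom, MulAut.conj_apply, mul_smul] at this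
    exact smul_left_cancel g (this.trans (smul_inv_smul g z).symm)

/-- Pronormality: a translate containing `Y ⊆ F` is the image of `F` under `fix Y`. -/
lemma exists_fix_map {Y : Finset Ω} (hY : Y ⊆ C.F) {g : G} (hg : Y ⊆ g • C.F) :
    ∃ w ∈ fix (G := G) Y, w • C.F = g • C.F := by
  obtain ⟨w, hw, heq⟩ := C.pro g
  refine ⟨w, ?_, ?_⟩
  · have hle : C.K ⊔ C.K.map (MulAut.conj g).toMonoidHom ≤ fix Y :=
      sup_le (C.K_le_fix hY) fun k hk => mem_fix.2 fun y hy => C.mem_smulF.1 (hg hy) k hk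
    exact hle hw
  · ext z
    rw [C.mem_smulF, C.mem_smulF, heq]

/-- Blocking: no translate contains a non-empty `K`-invariant set outside `F`. -/
lemma blocking {z : Ω} (hz : z ∉ C.F) {g : G} :
    ¬ ∀ k ∈ C.K, k • z ∈ g • C.F := by
  intro hall
  obtain ⟨w, hw, heq⟩ := C.pro g
  classical
  let O : Set Ω := MulAction.orbit C.K z
  have hOF : ∀ y ∈ O, y ∈ g • C.F := by
    rintro y ⟨⟨k, hk⟩, rfl⟩; exact hall k hk
  -- the subgroup preserving `O`
  have hpres : C.K ⊔ C.K.map (MulAut.conj g).toMonoidHom ≤ MulAction.stabilizer G O := by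
    refine sup_le ?_ ?_
    · intro k hk
      rw [MulAction.mem_stabilizer_iff]
      have := MulAction.smul_orbit (⟨k, hk⟩ : C.K) z
      exact this
    · intro k hk
      rw [MulAction.mem_stabilizer_iff]
      ext y
      constructor
      · rintro ⟨x, hx, rfl⟩
        show k • x ∈ O
        rwa [show k • x = x from C.mem_smulF.1 (hOF x hx) k hk]
      · intro hy; exact ⟨y, hy, C.mem_smulF.1 (hOF y hy) k hk⟩
  have hwO : w • O = O := MulAction.mem_stabilizer_iff.1 (hpres hw)
  have hwz : w • z ∈ O := hwO ▸ Set.smul_mem_smul_set (MulAction.mem_orbit_self z)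
  refine hz ((C.hF z).2 fun k hk => ?_)
  have hk' : (MulAut.conj w).toMonoidHom k ∈ C.K.map (MulAut.conj g).toMonoidHom :=
    heq ▸ Subgroup.mem_map_of_mem _ hk
  have := C.mem_smulF.1 (hOF _ hwz) _ hk'
  simp only [MulEquiv.coe_toMonoidHom, MulAut.conj_apply, mul_smul, inv_smul_smul] at this
  exact smul_left_cancel w this

/-- the flat of `Y`: intersection of all translates containing `Y` -/
noncomputable def D (Y : Finset Ω) : Finset Ω :=
  open Classical in Finset.univ.filter fun z => ∀ g : G, Y ⊆ g • C.F → z ∈ g • C.F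

lemma mem_D {Y : Finset Ω} {z : Ω} : z ∈ C.D Y ↔ ∀ g : G, Y ⊆ g • C.F → z ∈ g • C.F := by
  classical
  simp [D]

lemma subset_D (Y : Finset Ω) : Y ⊆ C.D Y := fun _y hy => C.mem_D.2 fun _g hg => hg hy

lemma D_subset_smul {Y : Finset Ω} {g : G} (h : Y ⊆ g • C.F) : C.D Y ⊆ g • C.F :=
  fun _z hz => C.mem_D.1 hz g h

lemma D_subset_F {Y : Finset Ω} (h : Y ⊆ C.F) : C.D Y ⊆ C.F := by
  have := C.D_subset_smul (g := (1 : G)) (Y := Y) (by rwa [one_smul])
  rwa [one_smul] at this

lemma D_subset_of_subset {Y Y' : Finset Ω} (h : Y ⊆ C.D Y') : C.D Y ⊆ C.D Y' :=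
  fun _z hz => C.mem_D.2 fun g hg => C.mem_D.1 hz g (h.trans (C.D_subset_smul hg))

lemma D_smul (g : G) (Y : Finset Ω) : C.D (g • Y) = g • C.D Y := by
  ext z
  rw [← Finset.inv_smul_mem_iff, C.mem_D, C.mem_D]
  constructor
  · intro h g' hg'
    have := h (g * g') (by rw [mul_smul]; exact Finset.smul_finset_subset_smul_finset_iff.2 hg')
    rw [mul_smul] at this
    rwa [Finset.inv_smul_mem_iff]
  · intro h g' hg'
    have := h (g⁻¹ * g') (by
      rw [mul_smul, ← Finset.smul_finset_subset_smul_finset_iff (a := g), smul_inv_smul]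
      exact hg')
    rw [mul_smul, Finset.smul_mem_smul_finset_iff] at this
    exact this

lemma fix_mem_D {Y : Finset Ω} {h : G} (hh : h ∈ fix Y) {z : Ω} :
    h • z ∈ C.D Y ↔ z ∈ C.D Y := by
  conv_lhs => rw [← fix_smul_finset hh, C.D_smul, Finset.smul_mem_smul_finset_iff]

lemma card_smulF (g : G) : (g • C.F).card = C.F.card := Finset.card_smul_finset g C.F

/-- Induction: a non-empty `fix Y`-invariant set outside `D Y` meets `F` in less than half. -/
lemma deficit {Y : Finset Ω} (hY : Y ⊆ C.F) (hYne : Y.Nonempty) :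
    ∀ W : Finset Ω, W.Nonempty → (∀ z ∈ W, z ∉ C.D Y) →
      (∀ h ∈ fix (G := G) Y, ∀ z ∈ W, h • z ∈ W) → 2 * (W ∩ C.F).card + 1 ≤ W.card := by
  classical
  intro W
  induction W using Finset.strongInduction with
  | H W ihW =>
  intro hW hdis hinv
  obtain ⟨z, hz⟩ := hW
  let Δ : Finset Ω := Finset.univ.filter fun x => x ∈ MulAction.orbit (fix (G := G) Y) z
  have hzΔ : z ∈ Δ := by simp [Δ]
  have hΔW : Δ ⊆ W := by
    intro x hx
    simp only [Δ, Finset.mem_filter, Finset.mem_univ, true_and] at hx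
    obtain ⟨⟨h, hh⟩, rfl⟩ := hx
    exact hinv h hh z hz
  have hΔinv : ∀ h ∈ fix (G := G) Y, ∀ x ∈ Δ, h • x ∈ Δ := by
    intro h hh x hx
    simp only [Δ, Finset.mem_filter, Finset.mem_univ, true_and] at hx ⊢
    exact MulAction.orbit_eq_iff.2 hx ▸ MulAction.mem_orbit x (⟨h, hh⟩ : fix (G := G) Y)
  have key : 2 * (Δ ∩ C.F).card + 1 ≤ Δ.card := by
    haveI hfin : Fintype ↥(MulAction.orbit (fix (G := G) Y) z) := Fintype.ofFinite _
    have hcard : Fintype.card ↥(MulAction.orbit (fix (G := G) Y) z) = Δ.card :=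
      (Fintype.card_of_subtype Δ (fun x => by simp [Δ]))
    have hlt : Fintype.card ↥(MulAction.orbit (fix (G := G) Y) z) < Fintype.card Ω := by
      obtain ⟨y, hy⟩ := hYne
      rw [hcard]
      refine Finset.card_lt_univ_of_notMem (x := y) fun hyΔ => ?_
      exact hdis y (hΔW hyΔ) (C.subset_D Y hy)
    let F' : Finset ↥(MulAction.orbit (fix (G := G) Y) z) :=
      Finset.univ.filter fun x => (x : Ω) ∈ C.F
    have hF'card : F'.card = (Δ ∩ C.F).card := by
      refine Finset.card_bij (fun x _ => (x : Ω)) (fun x hx => ?_) (fun a _ b _ h => Subtype.ext h)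
        (fun b hb => ?_)
      · simp only [F', Finset.mem_filter, Finset.mem_univ, true_and] at hx
        exact Finset.mem_inter.2 ⟨by simp [Δ], hx⟩
      · rw [Finset.mem_inter] at hb
        have hb1 := hb.1
        simp only [Δ, Finset.mem_filter, Finset.mem_univ, true_and] at hb1
        exact ⟨⟨b, hb1⟩, by simp [F', hb.2], rfl⟩
    rw [← hcard, ← hF'card]
    refine C.ih ↥(fix (G := G) Y) ↥(MulAction.orbit (fix (G := G) Y) z) hlt ?_
      (C.K.subgroupOf (fix Y)) F' ?_ ?_ ?_
    · refine MulAction.IsPretransitive.mk fun x y => ?_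
      obtain ⟨h1, e1⟩ := x.2
      obtain ⟨h2, e2⟩ := y.2
      refine ⟨h2 * h1⁻¹, Subtype.ext ?_⟩
      have e1' : h1 • z = (x : Ω) := e1
      have e2' : h2 • z = (y : Ω) := e2
      rw [MulAction.orbit.coe_smul, ← e1', mul_smul, inv_smul_smul, e2']
    · intro a
      simp only [F', Finset.mem_filter, Finset.mem_univ, true_and]
      rw [C.hF]
      constructor
      · intro h k hk
        exact Subtype.ext (h k hk)
      · intro h k hk
        have := h ⟨k, C.K_le_fix hY hk⟩ (Subgroup.mem_subgroupOf.2 hk)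
        exact congrArg Subtype.val this
    · by_contra hcon
      push Not at hcon
      refine hdis z hz (C.mem_D.2 fun g hg => ?_)
      obtain ⟨w, hw, hwF⟩ := C.exists_fix_map hY hg
      rw [← hwF, ← Finset.inv_smul_mem_iff]
      have := hcon ⟨w⁻¹ • z, ⟨⟨w⁻¹, inv_mem hw⟩, rfl⟩⟩
      simpa [F'] using this
    · intro g
      obtain ⟨w, hw, heq⟩ := C.pro (g : G)
      have hgle : C.K.map (MulAut.conj (g : G)).toMonoidHom ≤ fix Y := by
        rintro _ ⟨k, hk, rfl⟩
        simp only [MulEquiv.coe_toMonoidHom, MulAut.conj_apply]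
        exact mul_mem (mul_mem g.2 (C.K_le_fix hY hk)) (inv_mem g.2)
      have hwY : w ∈ fix Y := sup_le (C.K_le_fix hY) hgle hw
      have hmap : ∀ v : fix (G := G) Y,
          (C.K.subgroupOf (fix Y)).map (MulAut.conj v).toMonoidHom =
            (C.K.map (MulAut.conj (v : G)).toMonoidHom).subgroupOf (fix Y) := by
        intro v
        ext x
        simp only [Subgroup.mem_map, Subgroup.mem_subgroupOf, MulEquiv.coe_toMonoidHom,
          MulAut.conj_apply]
        constructor
        · rintro ⟨k, hk, rfl⟩; exact ⟨(k : G), hk, rfl⟩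
        · rintro ⟨k, hk, hkx⟩
          exact ⟨⟨k, C.K_le_fix hY hk⟩, hk, Subtype.ext hkx⟩
      refine ⟨⟨w, hwY⟩, ?_, ?_⟩
      · rw [hmap, ← Subgroup.subgroupOf_sup (C.K_le_fix hY) hgle, Subgroup.mem_subgroupOf]
        exact hw
      · rw [hmap, hmap, heq]
  by_cases hrest : (W \ Δ).Nonempty
  · have h2 := ihW (W \ Δ) (Finset.sdiff_ssubset hΔW ⟨z, hzΔ⟩) hrest
      (fun x hx => hdis x (Finset.mem_sdiff.1 hx).1)
      (fun h hh x hx => by
        rw [Finset.mem_sdiff] at hx ⊢
        refine ⟨hinv h hh x hx.1, fun hx' => hx.2 ?_⟩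
        simpa using hΔinv h⁻¹ (inv_mem hh) _ hx')
    have hc1 : (W ∩ C.F).card = (Δ ∩ C.F).card + ((W \ Δ) ∩ C.F).card := by
      rw [← Finset.card_union_of_disjoint, ← Finset.union_inter_distrib_right,
        Finset.union_sdiff_of_subset hΔW]
      exact (Finset.disjoint_sdiff).mono Finset.inter_subset_left Finset.inter_subset_left
    have hc2 : Δ.card + (W \ Δ).card = W.card := by
      rw [Finset.card_sdiff_of_subset hΔW]
      have := Finset.card_le_card hΔW
      omega
    omega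
  · rw [Finset.not_nonempty_iff_eq_empty, Finset.sdiff_eq_empty_iff_subset] at hrest
    rwa [Finset.Subset.antisymm hrest hΔW]

end Ctx

end Cfsg.Agent.HalfFixed36
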