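import Cfsg.Agent.Lib.HalfFixed36.Tournament

/-!
The counting bound: if the stabiliser of an `i`-set `S ⊆ F` (`i ≥ 3`, trivial flats) has two orbits
outside `S`, then the `K`-orbits on the moved points are too short for the blocking property.
-/

set_option autoImplicit false
set_option linter.unusedSectionVars false

open scoped Pointwise

namespace Cfsg.Agent.HalfFixed36

/-- the final inequality -/
lemma energy_arith (g j r : ℤ) (hg : 3 ≤ g) (hj : 1 ≤ j) (hr : r * (j + 3) ≤ g + j)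
    (h : g * (g - 1) * (2 * g + j) ≤ 2 * (2 * g + j - 2) * (r * (2 * g + j) - (g + j))) : False := by
  have hT : 0 ≤ 2 * g + j - 2 := by linarith
  have h1 : r * (j + 3) * (2 * g + j) ≤ (g + j) * (2 * g + j) :=
    mul_le_mul_of_nonneg_right hr (by linarith)
  have h2 : g * (g - 1) * (2 * g + j) * (j + 3)
      ≤ 2 * (2 * g + j - 2) * ((g + j) * (2 * g + j) - (g + j) * (j + 3)) := by
    have a1 := mul_le_mul_of_nonneg_right h (show (0 : ℤ) ≤ j + 3 by linarith)
    have a2 := mul_le_mul_of_nonneg_left h1 (show (0 : ℤ) ≤ 2 * (2 * g + j - 2) by linarith)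
    nlinarith
  have h3 : j * (g - 2) - g ≥ -2 := by nlinarith
  have h4 : (g - 3) * (j * (g - 2) - g) ≥ (g - 3) * (-2) :=
    mul_le_mul_of_nonneg_left h3 (by linarith)
  have h5 : (2 * g + j - 2) * ((g - 3) * (j * (g - 2) - g)) + 2 * g * (g - 1) * (j + 3) ≤ 0 := by
    nlinarith
  have h6 : (2 * g + j - 2) * ((g - 3) * (j * (g - 2) - g)) ≥ (2 * g + j - 2) * ((g - 3) * (-2)) :=
    mul_le_mul_of_nonneg_left h4 hT
  nlinarith

namespace Ctx

variable {G Ω : Type} [Group G] [MulAction G Ω] [Fintype Ω] [DecidableEq Ω] (C : Ctx G Ω)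

set_option maxHeartbeats 1000000 in
/-- No `i`-element flat inside `F` has two orbits of its stabiliser outside it (`i ≥ 3`). -/
theorem no_split {i : ℕ} (hi : 3 ≤ i) (hif : i < C.F.card) (hT : T G i (Ω := Ω))
    (hflat : ∀ S : Finset Ω, S.card = i → C.D S = S) {S : Finset Ω} (hSF : S ⊆ C.F)
    (hS : S.card = i) {z w : Ω} (hz : z ∉ S) (hw : w ∉ S)
    (hzw : ¬ ∃ h ∈ fix (G := G) S, h • z = w) : False := by
  classical
  obtain ⟨b, hbS, c, hcS, hbc⟩ := Finset.one_lt_card.1 (by omega : 1 < S.card)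
  let X : Finset Ω := (S.erase b).erase c
  have hcS' : c ∈ S.erase b := Finset.mem_erase.2 ⟨hbc.symm, hcS⟩
  have hXc : X.card = i - 2 := by
    rw [Finset.card_erase_of_mem hcS', Finset.card_erase_of_mem hbS, hS]; omega
  have hXS : X ⊆ S := (Finset.erase_subset _ _).trans (Finset.erase_subset _ _)
  have hXF : X ⊆ C.F := hXS.trans hSF
  have hbX : b ∉ X := by simp [X]
  have hcX : c ∉ X := by simp [X]
  have hSeq : S = insert b (insert c X) := by
    rw [Finset.insert_erase hcS', Finset.insert_erase hbS]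
  let R : Ω → Ω → Ω → Prop := fun p q u =>
    ∃ h ∈ fix (G := G) X, h • b = p ∧ h • c = q ∧ h • z = u
  have hRinv : ∀ g ∈ fix (G := G) X, ∀ p q u, (R (g • p) (g • q) (g • u) ↔ R p q u) := by
    intro g hg p q u
    constructor
    · rintro ⟨h, hh, e1, e2, e3⟩
      exact ⟨g⁻¹ * h, mul_mem (inv_mem hg) hh, by rw [mul_smul, e1, inv_smul_smul],
        by rw [mul_smul, e2, inv_smul_smul], by rw [mul_smul, e3, inv_smul_smul]⟩
    · rintro ⟨h, hh, rfl, rfl, rfl⟩
      exact ⟨g * h, mul_mem hg hh, mul_smul _ _ _, mul_smul _ _ _, mul_smul _ _ _⟩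
  have hgX : ∀ g ∈ fix (G := G) X, ∀ u, (g • u ∈ X ↔ u ∈ X) := by
    intro g hg u
    conv_lhs => rw [← fix_smul_finset hg, Finset.smul_mem_smul_finset_iff]
  let Δ : Ω → Ω → Finset Ω := fun p q => Finset.univ.filter fun u => R p q u
  let Rest : Ω → Ω → Finset Ω := fun p q => (insert p (insert q X))ᶜ \ Δ p q
  have hΔout : ∀ p q, Δ p q ⊆ (insert p (insert q X))ᶜ := by
    intro p q u hu
    simp only [Δ, Finset.mem_filter, Finset.mem_univ, true_and] at hu
    obtain ⟨h, hh, rfl, rfl, rfl⟩ := hu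
    rw [Finset.mem_compl, Finset.mem_insert, Finset.mem_insert, hgX h hh, smul_left_cancel_iff,
      smul_left_cancel_iff]
    rw [hSeq, Finset.mem_insert, Finset.mem_insert] at hz
    exact hz
  set k1 : ℕ := (Δ b c).card with hk1def
  set l : ℕ := (Rest b c).card with hldef
  let χ : Ω → Ω → Ω → ℤ := fun p q u =>
    if u ∈ Δ p q then (l : ℤ) else if u ∈ Rest p q then -(k1 : ℤ) else 0
  have hΔmap : ∀ g ∈ fix (G := G) X, ∀ p q u, (g • u ∈ Δ (g • p) (g • q) ↔ u ∈ Δ p q) := by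
    intro g hg p q u
    simp [Δ, hRinv g hg]
  have hRestmap : ∀ g ∈ fix (G := G) X, ∀ p q u, (g • u ∈ Rest (g • p) (g • q) ↔ u ∈ Rest p q) := by
    intro g hg p q u
    simp [Rest, hΔmap g hg, hgX g hg, smul_left_cancel_iff]
  have hχinv : ∀ g ∈ fix (G := G) X, ∀ p q u, χ (g • p) (g • q) (g • u) = χ p q u := by
    intro g hg p q u
    simp only [χ, hΔmap g hg, hRestmap g hg]
  let P : Finset (Ω × Ω) := Xᶜ.offDiag
  have hP : ∀ q : Ω × Ω, q ∈ P ↔ q.1 ∉ X ∧ q.2 ∉ X ∧ q.1 ≠ q.2 := by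
    intro q
    simp [P]
  have htrans : ∀ q ∈ P, ∃ g ∈ fix (G := G) X, g • b = q.1 ∧ g • c = q.2 := by
    intro q hq
    rw [hP] at hq
    exact exists_map_pair hT (by omega) hbc hq.2.2 hbX hcX hq.1 hq.2.1
  set E : ℤ := (k1 : ℤ) * l * l + (l : ℤ) * k1 * k1 with hEdef
  have hrowbase : ∀ F : ℤ → ℤ, F 0 = 0 →
      ∑ u, F (χ b c u) = (k1 : ℤ) * F l + (l : ℤ) * F (-(k1 : ℤ)) := by
    intro F hF0
    have hdis : Disjoint (Δ b c) (Rest b c) := Finset.disjoint_sdiff
    rw [← Finset.sum_subset (Finset.subset_univ (Δ b c ∪ Rest b c)) (fun u _ hu => by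
      rw [Finset.mem_union, not_or] at hu
      simp only [χ, if_neg hu.1, if_neg hu.2, hF0]), Finset.sum_union hdis]
    congr 1
    · rw [Finset.sum_congr rfl (g := fun _ => F l) (fun u hu => by simp only [χ, if_pos hu]),
        Finset.sum_const, nsmul_eq_mul]
    · rw [Finset.sum_congr rfl (g := fun _ => F (-(k1 : ℤ))) (fun u hu => by
          simp only [χ, if_neg (fun h => Finset.disjoint_left.1 hdis h hu), if_pos hu]),
        Finset.sum_const, nsmul_eq_mul]
  have hrow : ∀ q ∈ P, ∑ u, χ q.1 q.2 u = 0 ∧ ∑ u, χ q.1 q.2 u * χ q.1 q.2 u = E := by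
    intro q hq
    obtain ⟨g, hg, e1, e2⟩ := htrans q hq
    rw [← e1, ← e2]
    constructor
    · rw [← Equiv.sum_comp (MulAction.toPerm g), Finset.sum_congr rfl (fun u _ => by
        rw [MulAction.toPerm_apply, hχinv g hg]), hrowbase (fun x => x) rfl]
      ring
    · rw [← Equiv.sum_comp (MulAction.toPerm g), Finset.sum_congr rfl (fun u _ => by
        rw [MulAction.toPerm_apply, hχinv g hg]), hrowbase (fun x => x * x) (mul_zero _), hEdef]
      ring
  let Γ : Ω → Ω → ℤ := fun u u' => ∑ q ∈ P, χ q.1 q.2 u * χ q.1 q.2 u'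
  have hΓinv : ∀ g ∈ fix (G := G) X, ∀ u u', Γ (g • u) (g • u') = Γ u u' := by
    intro g hg u u'
    simp only [Γ]
    refine (Finset.sum_bij' (fun q _ => g • q) (fun q _ => g⁻¹ • q) (fun q hq => ?_) (fun q hq => ?_)
      (fun q _ => inv_smul_smul g q) (fun q _ => smul_inv_smul g q) (fun q _ => ?_)).symm
    · rw [hP] at hq ⊢
      simp [hgX g hg, hq.1, hq.2.1, hq.2.2]
    · rw [hP] at hq ⊢
      simp [hgX g⁻¹ (inv_mem hg), hq.1, hq.2.1, hq.2.2]
    · simp [hχinv g hg]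
  -- the Gram matrix
  set v : ℕ := Xᶜ.card with hvdef
  have hvval : v + (i - 2) = 2 * C.F.card := by
    have h1 := Finset.card_add_card_compl X
    rw [hXc, C.card_eq.1] at h1
    omega
  have hbV : b ∈ Xᶜ := Finset.mem_compl.2 hbX
  have hvpos : 2 ≤ v := by omega
  have hχX : ∀ p q u, u ∈ X → χ p q u = 0 := by
    intro p q u hu
    have h1 : u ∉ (insert p (insert q X))ᶜ := by simp [hu]
    simp only [χ, if_neg (fun h => h1 (hΔout p q h)), Rest, Finset.mem_sdiff, h1, false_and,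
      if_false]
  have hdiag : ∀ u ∈ Xᶜ, Γ u u = Γ b b := by
    intro u hu
    obtain ⟨h, hh, e⟩ := hT X (by omega) b u hbX (Finset.mem_compl.1 hu)
    rw [← e, hΓinv h hh]
  have hoff : ∀ u ∈ Xᶜ, ∀ u' ∈ Xᶜ, u ≠ u' → Γ u u' = Γ b c := by
    intro u hu u' hu' hne
    obtain ⟨h, hh, e1, e2⟩ := exists_map_pair hT (by omega) hbc hne hbX hcX
      (Finset.mem_compl.1 hu) (Finset.mem_compl.1 hu')
    rw [← e1, ← e2, hΓinv h hh]
  have hPcard : (P.card : ℤ) = (v : ℤ) * ((v : ℤ) - 1) := by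
    rw [Finset.offDiag_card, ← hvdef, Nat.cast_sub (Nat.le_mul_self v)]
    push_cast
    ring
  have hPd : Γ b b = ((v : ℤ) - 1) * E := by
    have h1 : ∑ u ∈ Xᶜ, Γ u u = (P.card : ℤ) * E := by
      simp only [Γ]
      rw [Finset.sum_comm, Finset.sum_congr rfl (g := fun _ => E) (fun q hq => ?_), Finset.sum_const,
        nsmul_eq_mul]
      rw [← (hrow q hq).2]
      exact Finset.sum_subset (Finset.subset_univ _) (fun u _ hu => by
        rw [hχX _ _ u (by simpa using hu), zero_mul])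
    rw [Finset.sum_congr rfl hdiag, Finset.sum_const, nsmul_eq_mul, hPcard, mul_assoc] at h1
    exact mul_left_cancel₀ (by exact_mod_cast (by omega : v ≠ 0)) h1
  have hQ : Γ b c = -E := by
    have h1 : ∑ u ∈ Xᶜ, Γ b u = 0 := by
      simp only [Γ]
      rw [Finset.sum_comm]
      refine Finset.sum_eq_zero fun q hq => ?_
      rw [← Finset.mul_sum, Finset.sum_subset (Finset.subset_univ _) (fun u _ hu =>
        hχX _ _ u (by simpa using hu)), (hrow q hq).1, mul_zero]
    rw [← Finset.add_sum_erase _ _ hbV, hPd, Finset.sum_congr rfl (g := fun _ => Γ b c)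
      (fun u hu => hoff b hbV u (Finset.mem_erase.1 hu).2 (Finset.mem_erase.1 hu).1.symm),
      Finset.sum_const, Finset.card_erase_of_mem hbV, ← hvdef, nsmul_eq_mul,
      Nat.cast_sub (by omega : 1 ≤ v), Nat.cast_one, ← mul_add] at h1
    have hne : ((v : ℤ) - 1) ≠ 0 := by
      have : (2 : ℤ) ≤ v := by exact_mod_cast hvpos
      linarith
    have := (mul_eq_zero.1 h1).resolve_left hne
    linarith
  -- orbits of `K` outside `F`
  let orb : Ω → Finset Ω := fun u => Finset.univ.filter fun u' => ∃ k ∈ C.K, k • u = u'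
  have horbself : ∀ u, u ∈ orb u := fun u => by
    simp only [orb, Finset.mem_filter, Finset.mem_univ, true_and]
    exact ⟨1, one_mem _, one_smul _ _⟩
  have horbeq : ∀ u u', u' ∈ orb u → orb u' = orb u := by
    intro u u' h
    simp only [orb, Finset.mem_filter, Finset.mem_univ, true_and] at h
    obtain ⟨k, hk, rfl⟩ := h
    ext x
    simp only [orb, Finset.mem_filter, Finset.mem_univ, true_and]
    constructor
    · rintro ⟨k', hk', rfl⟩; exact ⟨k' * k, mul_mem hk' hk, mul_smul _ _ _⟩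
    · rintro ⟨k', hk', rfl⟩
      exact ⟨k' * k⁻¹, mul_mem hk' (inv_mem hk), by rw [mul_smul, inv_smul_smul]⟩
  have horbM : ∀ u, u ∉ C.F → orb u ⊆ C.Fᶜ := by
    intro u hu u' hu'
    rw [Finset.mem_compl]
    intro hu'F
    simp only [orb, Finset.mem_filter, Finset.mem_univ, true_and] at hu'
    obtain ⟨k, hk, rfl⟩ := hu'
    have := (C.hF _).1 hu'F k⁻¹ (inv_mem hk)
    rw [inv_smul_smul] at this
    exact hu (by rw [this]; exact hu'F)
  have hobig : ∀ u, u ∉ C.F → i + 1 ≤ (orb u).card := by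
    intro u hu
    by_contra hlt
    obtain ⟨g, hg⟩ := C.exists_translate hT hif.le (S := orb u) (by omega)
    refine C.blocking hu (g := g) fun k hk => hg ?_
    simp only [orb, Finset.mem_filter, Finset.mem_univ, true_and]
    exact ⟨k, hk, rfl⟩
  have hVorb : ∀ u, u ∉ C.F → orb u ⊆ Xᶜ := fun u hu x hx =>
    Finset.mem_compl.2 fun hX => Finset.mem_compl.1 (horbM u hu hx) (hXF hX)
  let FF : Finset (Ω × Ω) := (C.F \ X).offDiag
  have hFFP : FF ⊆ P := by
    intro q hq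
    simp only [FF, Finset.mem_offDiag, Finset.mem_sdiff] at hq
    rw [hP]
    exact ⟨hq.1.2, hq.2.1.2, hq.2.2⟩
  have horbit : ∀ u, u ∉ C.F →
      ∑ q ∈ FF, ∑ x ∈ orb u, χ q.1 q.2 x * χ q.1 q.2 x ≤ E * ((v : ℤ) - (orb u).card) := by
    intro u hu
    set O := orb u with hOdef
    have hOV := hVorb u hu
    have hleft : ∑ q ∈ P, (∑ x ∈ O, χ q.1 q.2 x) * (∑ x ∈ O, χ q.1 q.2 x)
        = (O.card : ℤ) * (E * ((v : ℤ) - O.card)) := by
      simp only [Finset.sum_mul_sum]
      rw [Finset.sum_comm]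
      rw [Finset.sum_congr rfl (g := fun _ => E * ((v : ℤ) - O.card)) (fun x hx => ?_),
        Finset.sum_const, nsmul_eq_mul]
      rw [Finset.sum_comm]
      show ∑ y ∈ O, Γ x y = _
      rw [← Finset.add_sum_erase _ _ hx, hdiag x (hOV hx), hPd,
        Finset.sum_congr rfl (g := fun _ => Γ b c) (fun y hy => hoff x (hOV hx) y
          (hOV (Finset.mem_erase.1 hy).2) (Finset.mem_erase.1 hy).1.symm),
        Finset.sum_const, Finset.card_erase_of_mem hx, hQ, nsmul_eq_mul,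
        Nat.cast_sub (Finset.card_pos.2 ⟨x, hx⟩ : 1 ≤ O.card)]
      push_cast
      ring
    have hright : ∀ q ∈ FF, (∑ x ∈ O, χ q.1 q.2 x) * (∑ x ∈ O, χ q.1 q.2 x)
        = (O.card : ℤ) * ∑ x ∈ O, χ q.1 q.2 x * χ q.1 q.2 x := by
      intro q hq
      simp only [FF, Finset.mem_offDiag, Finset.mem_sdiff] at hq
      have hconst : ∀ x ∈ O, χ q.1 q.2 x = χ q.1 q.2 u := by
        intro x hx
        simp only [hOdef, orb, Finset.mem_filter, Finset.mem_univ, true_and] at hx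
        obtain ⟨k, hk, rfl⟩ := hx
        have := hχinv k (C.K_le_fix hXF hk) q.1 q.2 u
        rwa [(C.hF _).1 hq.1.1 k hk, (C.hF _).1 hq.2.1.1 k hk] at this
      rw [Finset.sum_congr rfl hconst, Finset.sum_congr rfl (f := fun x => χ q.1 q.2 x * χ q.1 q.2 x)
          (g := fun _ => χ q.1 q.2 u * χ q.1 q.2 u) (fun x hx => by rw [hconst x hx]),
        Finset.sum_const, Finset.sum_const, nsmul_eq_mul, nsmul_eq_mul]
      ring
    have hle : ∑ q ∈ FF, (∑ x ∈ O, χ q.1 q.2 x) * (∑ x ∈ O, χ q.1 q.2 x)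
        ≤ ∑ q ∈ P, (∑ x ∈ O, χ q.1 q.2 x) * (∑ x ∈ O, χ q.1 q.2 x) :=
      Finset.sum_le_sum_of_subset_of_nonneg hFFP (fun q _ _ => mul_self_nonneg _)
    rw [hleft, Finset.sum_congr rfl hright, ← Finset.mul_sum] at hle
    exact le_of_mul_le_mul_left hle (by exact_mod_cast Finset.card_pos.2 ⟨u, horbself u⟩)
  -- sum over the orbits
  let 𝒪 : Finset (Finset Ω) := C.Fᶜ.image orb
  have hmaps : Set.MapsTo orb ↑(C.Fᶜ) ↑𝒪 := fun u hu => Finset.mem_image_of_mem orb hu
  have hfib : ∀ O ∈ 𝒪, (C.Fᶜ.filter fun u => orb u = O) = O := by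
    intro O hO
    obtain ⟨u, hu, rfl⟩ := Finset.mem_image.1 hO
    ext x
    simp only [Finset.mem_filter]
    exact ⟨fun h => h.2 ▸ horbself x, fun h => ⟨horbM u (Finset.mem_compl.1 hu) h, horbeq u x h⟩⟩
  have hosum : ∑ O ∈ 𝒪, O.card = C.F.card := by
    rw [← C.card_compl, Finset.card_eq_sum_card_fiberwise hmaps]
    exact Finset.sum_congr rfl fun O hO => by rw [hfib O hO]
  have hr : 𝒪.card * (i + 1) ≤ C.F.card := by
    rw [← hosum, ← smul_eq_mul, ← Finset.sum_const]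
    refine Finset.sum_le_sum fun O hO => ?_
    obtain ⟨u, hu, rfl⟩ := Finset.mem_image.1 hO
    exact hobig u (Finset.mem_compl.1 hu)
  have htot : ∑ q ∈ FF, ∑ x ∈ C.Fᶜ, χ q.1 q.2 x * χ q.1 q.2 x
      ≤ E * ((𝒪.card : ℤ) * v - C.F.card) := by
    have : ∀ q ∈ FF, ∑ x ∈ C.Fᶜ, χ q.1 q.2 x * χ q.1 q.2 x
        = ∑ O ∈ 𝒪, ∑ x ∈ O, χ q.1 q.2 x * χ q.1 q.2 x := by
      intro q _
      rw [← Finset.sum_fiberwise_of_maps_to hmaps]
      exact Finset.sum_congr rfl fun O hO => by rw [hfib O hO]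
    rw [Finset.sum_congr rfl this, Finset.sum_comm]
    calc ∑ O ∈ 𝒪, ∑ q ∈ FF, ∑ x ∈ O, χ q.1 q.2 x * χ q.1 q.2 x
        ≤ ∑ O ∈ 𝒪, E * ((v : ℤ) - O.card) := by
          refine Finset.sum_le_sum fun O hO => ?_
          obtain ⟨u, hu, rfl⟩ := Finset.mem_image.1 hO
          exact horbit u (Finset.mem_compl.1 hu)
      _ = E * ((𝒪.card : ℤ) * v - C.F.card) := by
          rw [← Finset.mul_sum, Finset.sum_sub_distrib, Finset.sum_const, nsmul_eq_mul,
            ← Nat.cast_sum, hosum]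
  -- the rows inside `F` are concentrated outside `F`
  have hk1pos : 0 < k1 := by
    refine Finset.card_pos.2 ⟨z, ?_⟩
    simp only [Δ, Finset.mem_filter, Finset.mem_univ, true_and]
    exact ⟨1, one_mem _, one_smul _ _, one_smul _ _, one_smul _ _⟩
  have hlpos : 0 < l := by
    refine Finset.card_pos.2 ⟨w, Finset.mem_sdiff.2 ⟨Finset.mem_compl.2 (hSeq ▸ hw), ?_⟩⟩
    simp only [Δ, Finset.mem_filter, Finset.mem_univ, true_and]
    rintro ⟨h, hh, e1, e2, e3⟩
    refine hzw ⟨h, mem_fix.2 fun y hy => ?_, e3⟩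
    rw [hSeq, Finset.mem_insert, Finset.mem_insert] at hy
    rcases hy with rfl | rfl | hy
    · exact e1
    · exact e2
    · exact mem_fix.1 hh y hy
  have hT' : k1 + l = 2 * C.F.card - i := by
    have h1 : (Δ b c).card + (Rest b c).card = (insert b (insert c X))ᶜ.card := by
      rw [Finset.card_sdiff_of_subset (hΔout b c)]
      have := Finset.card_le_card (hΔout b c)
      omega
    rw [← hSeq, Finset.card_compl, hS, C.card_eq.1] at h1
    exact h1
  have hrowFF : ∀ q ∈ FF, E + (l : ℤ) * l + (k1 : ℤ) * k1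
      ≤ 2 * ∑ x ∈ C.Fᶜ, χ q.1 q.2 x * χ q.1 q.2 x := by
    intro q hq
    have hqP := hFFP hq
    simp only [FF, Finset.mem_offDiag, Finset.mem_sdiff] at hq
    obtain ⟨g, hg, e1, e2⟩ := htrans q hqP
    let S' := insert q.1 (insert q.2 X)
    have hS'F : S' ⊆ C.F := by simp [S', Finset.insert_subset_iff, hq.1.1, hq.2.1.1, hXF]
    have hS'c : S'.card = i := by
      rw [Finset.card_insert_of_notMem (by simp [hq.2.2, hq.1.2]),
        Finset.card_insert_of_notMem hq.2.1.2, hXc]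
      omega
    have hleX : fix (G := G) S' ≤ fix X :=
      fix_anti ((Finset.subset_insert _ _).trans (Finset.subset_insert _ _))
    have hcards : (Δ q.1 q.2).card = k1 ∧ (Rest q.1 q.2).card = l := by
      constructor
      · refine (Finset.card_bij (fun u _ => g • u) (fun u hu => ?_)
          (fun _ _ _ _ h => smul_left_cancel g h) (fun u hu => ⟨g⁻¹ • u, ?_, smul_inv_smul g u⟩)).symm
        · rw [← e1, ← e2, hΔmap g hg]; exact hu
        · rw [← hΔmap g hg, smul_inv_smul, e1, e2]; exact hu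
      · refine (Finset.card_bij (fun u _ => g • u) (fun u hu => ?_)
          (fun _ _ _ _ h => smul_left_cancel g h) (fun u hu => ⟨g⁻¹ • u, ?_, smul_inv_smul g u⟩)).symm
        · rw [← e1, ← e2, hRestmap g hg]; exact hu
        · rw [← hRestmap g hg, smul_inv_smul, e1, e2]; exact hu
    have hdef : ∀ W : Finset Ω, 0 < W.card → W ⊆ S'ᶜ →
        (∀ h ∈ fix (G := G) S', ∀ u ∈ W, h • u ∈ W) → W.card + 1 ≤ 2 * (W ∩ C.Fᶜ).card := by
      intro W hWc hWsub hWinv
      have h1 := C.deficit hS'F (Finset.card_pos.1 (by omega)) W (Finset.card_pos.1 hWc)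
        (fun u hu hD => by rw [hflat S' hS'c] at hD; exact Finset.mem_compl.1 (hWsub hu) hD) hWinv
      have h2 : (W ∩ C.F).card + (W ∩ C.Fᶜ).card = W.card := by
        rw [← Finset.card_union_of_disjoint, ← Finset.inter_union_distrib_left,
          Finset.union_compl, Finset.inter_univ]
        exact (disjoint_compl_right).mono Finset.inter_subset_right Finset.inter_subset_right
      omega
    have hfixq : ∀ h ∈ fix (G := G) S', h • q.1 = q.1 ∧ h • q.2 = q.2 := fun h hh =>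
      ⟨mem_fix.1 hh _ (by simp [S']), mem_fix.1 hh _ (by simp [S'])⟩
    have hd1 := hdef (Δ q.1 q.2) (by rw [hcards.1]; exact hk1pos) (hΔout _ _) (fun h hh u hu => by
      have := (hΔmap h (hleX hh) q.1 q.2 u).2 hu
      rwa [(hfixq h hh).1, (hfixq h hh).2] at this)
    have hd2 := hdef (Rest q.1 q.2) (by rw [hcards.2]; exact hlpos) Finset.sdiff_subset
      (fun h hh u hu => by
        have := (hRestmap h (hleX hh) q.1 q.2 u).2 hu
        rwa [(hfixq h hh).1, (hfixq h hh).2] at this)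
    rw [hcards.1] at hd1
    rw [hcards.2] at hd2
    have hdis : Disjoint (Δ q.1 q.2 ∩ C.Fᶜ) (Rest q.1 q.2 ∩ C.Fᶜ) :=
      (Finset.disjoint_sdiff).mono Finset.inter_subset_left Finset.inter_subset_left
    have hsum : ((Δ q.1 q.2 ∩ C.Fᶜ).card : ℤ) * ((l : ℤ) * l)
        + ((Rest q.1 q.2 ∩ C.Fᶜ).card : ℤ) * ((k1 : ℤ) * k1)
        ≤ ∑ x ∈ C.Fᶜ, χ q.1 q.2 x * χ q.1 q.2 x := by
      refine le_trans (le_of_eq ?_) (Finset.sum_le_sum_of_subset_of_nonneg
        (Finset.union_subset (Finset.inter_subset_right (s₁ := Δ q.1 q.2))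
          (Finset.inter_subset_right (s₁ := Rest q.1 q.2))) (fun x _ _ => mul_self_nonneg _))
      rw [Finset.sum_union hdis]
      congr 1
      · rw [Finset.sum_congr rfl (g := fun _ => (l : ℤ) * l) (fun x hx => by
          simp only [χ, if_pos (Finset.mem_inter.1 hx).1]), Finset.sum_const, nsmul_eq_mul]
      · rw [Finset.sum_congr rfl (g := fun _ => (k1 : ℤ) * k1) (fun x hx => by
          have hx1 := (Finset.mem_inter.1 hx).1
          simp only [χ, if_neg (Finset.mem_sdiff.1 hx1).2, if_pos hx1]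
          ring), Finset.sum_const, nsmul_eq_mul]
    have z1 : (k1 : ℤ) + 1 ≤ 2 * ((Δ q.1 q.2 ∩ C.Fᶜ).card : ℤ) := by exact_mod_cast hd1
    have z2 : (l : ℤ) + 1 ≤ 2 * ((Rest q.1 q.2 ∩ C.Fᶜ).card : ℤ) := by exact_mod_cast hd2
    nlinarith [mul_le_mul_of_nonneg_right z1 (mul_self_nonneg (l : ℤ)),
      mul_le_mul_of_nonneg_right z2 (mul_self_nonneg (k1 : ℤ))]
  have hmain : (FF.card : ℤ) * (E + (l : ℤ) * l + (k1 : ℤ) * k1)
      ≤ 2 * (E * ((𝒪.card : ℤ) * v - C.F.card)) := by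
    rw [← nsmul_eq_mul, ← Finset.sum_const]
    refine (Finset.sum_le_sum hrowFF).trans ?_
    rw [← Finset.mul_sum]
    linarith
  have hFFcard : (FF.card : ℤ) = ((C.F.card : ℤ) - (i - 2 : ℕ)) * ((C.F.card : ℤ) - (i - 2 : ℕ) - 1) := by
    rw [Finset.offDiag_card, Finset.card_sdiff_of_subset hXF, hXc,
      Nat.cast_sub (Nat.le_mul_self _), Nat.cast_mul, Nat.cast_sub (by omega : i - 2 ≤ C.F.card)]
    ring
  obtain ⟨j, rfl⟩ : ∃ j, i = j + 2 := ⟨i - 2, by omega⟩
  obtain ⟨g, hg⟩ : ∃ g, C.F.card = g + j := ⟨C.F.card - j, by omega⟩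
  simp only [Nat.add_sub_cancel] at hFFcard hvval
  have hv' : (v : ℤ) = 2 * g + j := by omega
  have hTz : (k1 : ℤ) + l = 2 * g + j - 2 := by omega
  have hEpos : 0 < E := by
    have a1 : (0 : ℤ) < k1 := Int.natCast_pos.2 hk1pos
    have a2 : (0 : ℤ) < l := Int.natCast_pos.2 hlpos
    rw [hEdef]
    exact add_pos (mul_pos (mul_pos a1 a2) a2) (mul_pos (mul_pos a2 a1) a1)
  have hEeq : E = (k1 : ℤ) * l * (2 * g + j - 2) := by rw [hEdef, ← hTz]; ring
  have hsq : 2 * ((k1 : ℤ) * l) ≤ (l : ℤ) * l + (k1 : ℤ) * k1 := by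
    nlinarith [mul_self_nonneg ((k1 : ℤ) - l)]
  have hTpos : (0 : ℤ) < 2 * g + j - 2 := by omega
  have hfin : ((g : ℤ) * (g - 1)) * (2 * g + j)
      ≤ 2 * (2 * g + j - 2) * ((𝒪.card : ℤ) * (2 * g + j) - (g + j)) := by
    have h1 : (FF.card : ℤ) = (g : ℤ) * (g - 1) := by rw [hFFcard, hg]; push_cast; ring
    have h0 : (0 : ℤ) ≤ (FF.card : ℤ) := Int.natCast_nonneg _
    rw [hv', hg] at hmain
    push_cast at hmain
    have h2 : E * ((2 * g + j - 2) + 2)
        ≤ (2 * g + j - 2) * (E + (l : ℤ) * l + (k1 : ℤ) * k1) := by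
      have := mul_le_mul_of_nonneg_left hsq hTpos.le
      rw [hEeq]
      linarith
    have h3 := mul_le_mul_of_nonneg_left h2 h0
    have h4 := mul_le_mul_of_nonneg_left hmain hTpos.le
    rw [h1] at h3 h4
    refine le_of_mul_le_mul_left ?_ hEpos
    linarith
  refine energy_arith g j (𝒪.card) (by omega) (by omega) ?_ hfin
  have hr' : (𝒪.card : ℤ) * ((j : ℤ) + 2 + 1) ≤ (g : ℤ) + j := by
    rw [hg] at hr; exact_mod_cast hr
  linarith

end Ctx

end Cfsg.Agent.HalfFixed36
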