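import Cfsg.Agent.Lib.HalfFixed36.Transitive

/-!
Non-trivial flats: the flats of `i`-sets form a Steiner system with closed `F`; counting block
intersections shows that the complement of `F` is closed and that any two translates share exactly
half of their points, against the average.
-/

set_option autoImplicit false
set_option linter.unusedSectionVars false

open scoped Pointwise

namespace Cfsg.Agent.HalfFixed36

lemma desc_lt : ∀ m a b : ℕ, 1 ≤ m → m ≤ b → a < b → a.descFactorial m < b.descFactorial m := by
  intro m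
  induction m with
  | zero => intro a b h; omega
  | succ m ihm =>
    intro a b _ hmb hab
    rw [Nat.descFactorial_succ, Nat.descFactorial_succ]
    have hb : 0 < b.descFactorial m := Nat.descFactorial_pos.2 (by omega)
    have hle : a.descFactorial m ≤ b.descFactorial m := Nat.descFactorial_le m hab.le
    have hlt : a - m < b - m := by omega
    exact Nat.mul_lt_mul_of_lt_of_le hlt hle hb

/-- `(x)_{m+1} = (x - m) (x)_m` over `ℤ`, valid without truncation. -/
lemma desc_succ_int (x m : ℕ) :
    ((x.descFactorial (m + 1) : ℕ) : ℤ) = ((x : ℤ) - m) * (x.descFactorial m : ℕ) := by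
  rw [Nat.descFactorial_succ]
  rcases Nat.lt_or_ge x m with h | h
  · rw [Nat.descFactorial_eq_zero_iff_lt.2 h]; simp
  · rw [Nat.cast_mul, Nat.cast_sub h]

namespace Ctx

variable {G Ω : Type} [Group G] [MulAction G Ω] [Fintype Ω] [DecidableEq Ω] (C : Ctx G Ω)

/-- blocks of size `i + 1` -/
def IsBlk (i : ℕ) (B : Finset Ω) : Prop := B.card = i + 1 ∧ ∀ p ∈ B, C.D (B.erase p) = B

lemma D_card_eq {i : ℕ} (hT : T G i (Ω := Ω)) {S S' : Finset Ω} (hS : S.card = i)
    (hS' : S'.card = i) : (C.D S').card = (C.D S).card := by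
  obtain ⟨g, rfl⟩ := exists_map_finset hT i le_rfl S S' hS hS'
  rw [C.D_smul, Finset.card_smul_finset]

lemma D_eq_of_subset {i : ℕ} (hT : T G i (Ω := Ω)) {S S' : Finset Ω} (hS : S.card = i)
    (hS' : S'.card = i) (h : S' ⊆ C.D S) : C.D S' = C.D S :=
  Finset.eq_of_subset_of_card_le (C.D_subset_of_subset h) (C.D_card_eq hT hS hS').ge

lemma tits {i : ℕ} (hT : T G i (Ω := Ω)) {k : ℕ}
    (hk : ∀ S : Finset Ω, S.card = i → (C.D S).card = k) {W : Finset Ω}
    (hW : ∀ S : Finset Ω, S ⊆ W → S.card = i → C.D S ⊆ W) (hiW : i ≤ W.card) (hkW : k < W.card) :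
    (i + 1) * (k - i) + (i + 1) ≤ W.card := by
  classical
  obtain ⟨S, hSW, hS⟩ := Finset.exists_subset_card_eq hiW
  obtain ⟨e, he⟩ := Finset.sdiff_nonempty.2 (fun h : W ⊆ C.D S => by
    have := Finset.card_le_card h
    rw [hk S hS] at this
    omega)
  rw [Finset.mem_sdiff] at he
  have heS : e ∉ S := fun h => he.2 (C.subset_D S h)
  let T' := insert e S
  have hT'card : T'.card = i + 1 := by rw [Finset.card_insert_of_notMem heS, hS]
  have hT'W : T' ⊆ W := Finset.insert_subset he.1 hSW
  have herase : ∀ t ∈ T', (T'.erase t).card = i := fun t ht => by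
    rw [Finset.card_erase_of_mem ht, hT'card]; omega
  have hindep : ∀ t ∈ T', t ∉ C.D (T'.erase t) := by
    intro t ht hmem
    have hsub : T' ⊆ C.D (T'.erase t) := by
      rw [← Finset.insert_erase ht]
      refine Finset.insert_subset ?_ (fun x hx => ?_)
      · rwa [Finset.insert_erase ht]
      · rw [Finset.insert_erase ht]; exact C.subset_D _ hx
    have heq := C.D_eq_of_subset hT (herase t ht) hS ((Finset.subset_insert _ _).trans hsub)
    exact he.2 (heq ▸ hsub (Finset.mem_insert_self _ _))
  have hout : ∀ t ∈ T', k - i ≤ (C.D (T'.erase t) \ T').card := by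
    intro t ht
    have hinter : C.D (T'.erase t) ∩ T' ⊆ T'.erase t := by
      intro x hx
      rw [Finset.mem_inter] at hx
      exact Finset.mem_erase.2 ⟨fun h => hindep t ht (h ▸ hx.1), hx.2⟩
    have h1 := Finset.card_sdiff_add_card_inter (C.D (T'.erase t)) T'
    have h2 := Finset.card_le_card hinter
    rw [herase t ht] at h2
    rw [hk _ (herase t ht)] at h1
    omega
  have hdisj : ∀ t ∈ T', ∀ u ∈ T', t ≠ u →
      Disjoint (C.D (T'.erase t) \ T') (C.D (T'.erase u) \ T') := by
    intro t ht u hu htu
    rw [Finset.disjoint_left]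
    intro x hxt hxu
    rw [Finset.mem_sdiff] at hxt hxu
    let S' := insert x ((T'.erase t).erase u)
    have hu' : u ∈ T'.erase t := Finset.mem_erase.2 ⟨htu.symm, hu⟩
    have hS'card : S'.card = i := by
      rw [Finset.card_insert_of_notMem (fun h => hxt.2
        (Finset.mem_of_mem_erase (Finset.mem_of_mem_erase h))), Finset.card_erase_of_mem hu',
        herase t ht]
      have : 0 < (T'.erase t).card := Finset.card_pos.2 ⟨u, hu'⟩
      rw [herase t ht] at this
      omega
    have e1 : C.D S' = C.D (T'.erase t) := C.D_eq_of_subset hT (herase t ht) hS'card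
      (Finset.insert_subset hxt.1 (fun y hy => C.subset_D _ (Finset.mem_of_mem_erase hy)))
    have e2 : C.D S' = C.D (T'.erase u) := C.D_eq_of_subset hT (herase u hu) hS'card
      (Finset.insert_subset hxu.1 (fun y hy => C.subset_D _ (Finset.mem_erase.2
        ⟨(Finset.mem_erase.1 hy).1, Finset.mem_of_mem_erase (Finset.mem_of_mem_erase hy)⟩)))
    have : t ∈ C.D (T'.erase u) := C.subset_D _ (Finset.mem_erase.2 ⟨htu, ht⟩)
    rw [← e2, e1] at this
    exact hindep t ht this
  have hsub : T' ∪ T'.biUnion (fun t => C.D (T'.erase t) \ T') ⊆ W := by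
    refine Finset.union_subset hT'W (Finset.biUnion_subset.2 fun t ht => ?_)
    exact Finset.sdiff_subset.trans
      (hW _ ((Finset.erase_subset _ _).trans hT'W) (herase t ht))
  have hcard := Finset.card_le_card hsub
  rw [Finset.card_union_of_disjoint (by
      rw [Finset.disjoint_biUnion_right]
      exact fun t _ => Finset.disjoint_sdiff), Finset.card_biUnion hdisj, hT'card] at hcard
  have := Finset.sum_le_sum hout
  rw [Finset.sum_const, smul_eq_mul, hT'card] at this
  omega

/-- lines through a point outside `F` -/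
lemma line_bound {i : ℕ} (hi : 2 ≤ i) (hif : i ≤ C.F.card) (hT : T G i (Ω := Ω)) {k : ℕ}
    (hk : ∀ S : Finset Ω, S.card = i → (C.D S).card = k) :
    (C.F.card - (i - 2)) * (k - (i - 1)) + (i - 1) ≤ Fintype.card Ω := by
  classical
  obtain ⟨X, hXF, hX⟩ := Finset.exists_subset_card_eq (show i - 2 ≤ C.F.card by omega)
  obtain ⟨z, hz⟩ := C.moved
  have hzX : z ∉ X := fun h => hz (hXF h)
  let Y := insert z X
  have hY : Y.card = i - 1 := by rw [Finset.card_insert_of_notMem hzX, hX]; omega
  have hS : ∀ c ∈ C.F \ X, (insert c Y).card = i := by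
    intro c hc
    rw [Finset.mem_sdiff] at hc
    rw [Finset.card_insert_of_notMem, hY]
    · omega
    · simp only [Y, Finset.mem_insert, not_or]
      exact ⟨fun h => hz (h ▸ hc.1), hc.2⟩
  have hdisj : ∀ c ∈ C.F \ X, ∀ c' ∈ C.F \ X, c ≠ c' →
      Disjoint (C.D (insert c Y) \ Y) (C.D (insert c' Y) \ Y) := by
    intro c hc c' hc' hne
    rw [Finset.disjoint_left]
    intro x hx hx'
    rw [Finset.mem_sdiff] at hx hx'
    have hxS : (insert x Y).card = i := by rw [Finset.card_insert_of_notMem hx.2, hY]; omega
    have e1 := C.D_eq_of_subset hT (hS c hc) hxS (Finset.insert_subset hx.1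
      ((Finset.subset_insert _ _).trans (C.subset_D _)))
    have e2 := C.D_eq_of_subset hT (hS c' hc') hxS (Finset.insert_subset hx'.1
      ((Finset.subset_insert _ _).trans (C.subset_D _)))
    have hc'mem : c' ∈ C.D (insert c Y) := by
      rw [← e1, e2]; exact C.subset_D _ (Finset.mem_insert_self _ _)
    rw [Finset.mem_sdiff] at hc hc'
    have hS0 : (insert c (insert c' X)).card = i := by
      rw [Finset.card_insert_of_notMem (by simp [hne, hc.2]),
        Finset.card_insert_of_notMem hc'.2, hX]
      omega
    have e3 := C.D_eq_of_subset hT (hS c (Finset.mem_sdiff.2 hc)) hS0 (Finset.insert_subset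
      (C.subset_D _ (Finset.mem_insert_self _ _)) (Finset.insert_subset hc'mem
        ((Finset.subset_insert _ _).trans ((Finset.subset_insert _ _).trans (C.subset_D _)))))
    refine hz (C.D_subset_F (Finset.insert_subset hc.1 (Finset.insert_subset hc'.1 hXF)) ?_)
    rw [e3]
    exact C.subset_D _ (Finset.mem_insert_of_mem (Finset.mem_insert_self _ _))
  have hsize : ∀ c ∈ C.F \ X, k - (i - 1) ≤ (C.D (insert c Y) \ Y).card := by
    intro c hc
    rw [Finset.card_sdiff_of_subset ((Finset.subset_insert _ _).trans (C.subset_D _)), hk _ (hS c hc),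
      hY]
  have h1 := Finset.sum_le_sum hsize
  rw [Finset.sum_const, smul_eq_mul, Finset.card_sdiff_of_subset hXF, hX,
    ← Finset.card_biUnion hdisj] at h1
  have h2 : ((C.F \ X).biUnion fun c => C.D (insert c Y) \ Y).card + Y.card ≤ Fintype.card Ω := by
    rw [← Finset.card_union_of_disjoint (by
      rw [Finset.disjoint_biUnion_left]
      exact fun c _ => Finset.sdiff_disjoint)]
    exact Finset.card_le_univ _
  omega

/-- number of blocks in `W` meeting `Z` in `s` points -/
noncomputable def blkCount (i : ℕ) (W Z : Finset Ω) (s : ℕ) : ℕ :=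
  open Classical in (W.powerset.filter fun B => C.IsBlk i B ∧ (B ∩ Z).card = s).card

lemma blkCount_eq_zero {i : ℕ} {W Z : Finset Ω} {s : ℕ}
    (h : ∀ B, B ⊆ W → C.IsBlk i B → (B ∩ Z).card ≠ s) : C.blkCount i W Z s = 0 := by
  classical
  rw [blkCount, Finset.card_eq_zero, Finset.filter_eq_empty_iff]
  exact fun B hB hh => h B (Finset.mem_powerset.1 hB) hh.1 hh.2

lemma exists_of_blkCount_zero {i : ℕ} {W Z : Finset Ω} {s : ℕ} (h : C.blkCount i W Z s = 0)
    {B : Finset Ω} (hBW : B ⊆ W) (hB : C.IsBlk i B) : (B ∩ Z).card ≠ s := by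
  classical
  rw [blkCount, Finset.card_eq_zero, Finset.filter_eq_empty_iff] at h
  exact fun hs => h (Finset.mem_powerset.2 hBW) ⟨hB, hs⟩

lemma isBlk_D {i : ℕ} (hT : T G i (Ω := Ω)) (hk : ∀ S : Finset Ω, S.card = i → (C.D S).card = i + 1)
    {S : Finset Ω} (hS : S.card = i) : C.IsBlk i (C.D S) :=
  ⟨hk S hS, fun p hp => C.D_eq_of_subset hT hS (by rw [Finset.card_erase_of_mem hp, hk S hS]; omega)
    (Finset.erase_subset _ _)⟩

lemma double_count {i : ℕ} (hT : T G i (Ω := Ω))
    (hk : ∀ S : Finset Ω, S.card = i → (C.D S).card = i + 1) {W Z : Finset Ω} (hZ : Z ⊆ W)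
    (hW : ∀ S : Finset Ω, S ⊆ W → S.card = i → C.D S ⊆ W) {s : ℕ} (hs : s ≤ i) :
    (W \ Z).card.choose (i - s) * Z.card.choose s
      = C.blkCount i W Z s * (i + 1 - s) + C.blkCount i W Z (s + 1) * (s + 1) := by
  classical
  let 𝒮 := (W.powersetCard i).filter fun S => (S ∩ Z).card = s
  have hS : 𝒮.card = (W \ Z).card.choose (i - s) * Z.card.choose s := by
    rw [← Finset.card_powersetCard, ← Finset.card_powersetCard, ← Finset.card_product]
    refine Finset.card_bij' (fun S _ => (S \ Z, S ∩ Z)) (fun q _ => q.1 ∪ q.2)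
      (fun S hS => ?_) (fun q hq => ?_) (fun S _ => ?_) (fun q hq => ?_)
    · simp only [𝒮, Finset.mem_filter, Finset.mem_powersetCard] at hS
      rw [Finset.mem_product, Finset.mem_powersetCard, Finset.mem_powersetCard]
      have := Finset.card_sdiff_add_card_inter S Z
      refine ⟨⟨Finset.sdiff_subset_sdiff hS.1.1 subset_rfl, ?_⟩, Finset.inter_subset_right, hS.2⟩
      show (S \ Z).card = i - s
      omega
    · rw [Finset.mem_product, Finset.mem_powersetCard, Finset.mem_powersetCard] at hq
      have hd : Disjoint q.1 q.2 :=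
        (Finset.sdiff_disjoint).mono hq.1.1 hq.2.1
      simp only [𝒮, Finset.mem_filter, Finset.mem_powersetCard]
      refine ⟨⟨Finset.union_subset (hq.1.1.trans Finset.sdiff_subset) (hq.2.1.trans hZ), ?_⟩, ?_⟩
      · rw [Finset.card_union_of_disjoint hd, hq.1.2, hq.2.2]; omega
      · rw [Finset.union_inter_distrib_right, Finset.inter_eq_left.2 hq.2.1,
          Finset.disjoint_iff_inter_eq_empty.1 ((Finset.sdiff_disjoint).mono_left hq.1.1),
          Finset.empty_union, hq.2.2]
    · exact Finset.sdiff_union_inter S Z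
    · rw [Finset.mem_product, Finset.mem_powersetCard, Finset.mem_powersetCard] at hq
      have h1 : q.1 ∩ Z = ∅ :=
        Finset.disjoint_iff_inter_eq_empty.1 ((Finset.sdiff_disjoint).mono_left hq.1.1)
      refine Prod.ext ?_ ?_
      · show (q.1 ∪ q.2) \ Z = q.1
        rw [Finset.union_sdiff_distrib, Finset.sdiff_eq_empty_iff_subset.2 hq.2.1, Finset.union_empty,
          Finset.sdiff_eq_self_iff_disjoint.2 ((Finset.sdiff_disjoint).mono_left hq.1.1)]
      · show (q.1 ∪ q.2) ∩ Z = q.2
        rw [Finset.union_inter_distrib_right, h1, Finset.empty_union,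
          Finset.inter_eq_left.2 hq.2.1]
  let 𝔅 := W.powerset.filter fun B => C.IsBlk i B
  have hmaps : Set.MapsTo C.D ↑𝒮 ↑𝔅 := by
    intro S hS
    simp only [𝒮, Finset.coe_filter, Finset.mem_powersetCard, Set.mem_ofPred_eq] at hS
    simp only [𝔅, Finset.coe_filter, Finset.mem_powerset, Set.mem_ofPred_eq]
    exact ⟨hW S hS.1.1 hS.1.2, C.isBlk_D hT hk hS.1.2⟩
  have hfib : ∀ B ∈ 𝔅, (𝒮.filter fun S => C.D S = B).card
      = (if (B ∩ Z).card = s then i + 1 - s else 0)
        + (if (B ∩ Z).card = s + 1 then s + 1 else 0) := by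
    intro B hB
    simp only [𝔅, Finset.mem_filter, Finset.mem_powerset] at hB
    obtain ⟨hBW, hBc, hBe⟩ := hB
    have hbij : (B.filter fun p => ((B.erase p) ∩ Z).card = s).card
        = (𝒮.filter fun S => C.D S = B).card := by
      refine Finset.card_bij (fun p _ => B.erase p) (fun p hp => ?_) (fun p hp q hq e => ?_)
        (fun S hS => ?_)
      · rw [Finset.mem_filter] at hp
        simp only [𝒮, Finset.mem_filter, Finset.mem_powersetCard]
        exact ⟨⟨⟨(Finset.erase_subset _ _).trans hBW, by rw [Finset.card_erase_of_mem hp.1, hBc]; omega⟩,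
          hp.2⟩, hBe p hp.1⟩
      · rw [Finset.mem_filter] at hp hq
        by_contra hne
        have : p ∈ B.erase q := Finset.mem_erase.2 ⟨hne, hp.1⟩
        rw [← e] at this
        exact (Finset.mem_erase.1 this).1 rfl
      · simp only [𝒮, Finset.mem_filter, Finset.mem_powersetCard] at hS
        have hsub : S ⊆ B := hS.2 ▸ C.subset_D S
        obtain ⟨p, hp⟩ := Finset.card_eq_one.1 (show (B \ S).card = 1 by
          rw [Finset.card_sdiff_of_subset hsub, hBc, hS.1.1.2]; omega)
        have hpB : p ∈ B \ S := hp ▸ Finset.mem_singleton_self p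
        rw [Finset.mem_sdiff] at hpB
        have hSe : B.erase p = S := by
          rw [Finset.erase_eq, ← hp, Finset.sdiff_sdiff_eq_self hsub]
        exact ⟨p, Finset.mem_filter.2 ⟨hpB.1, hSe.symm ▸ hS.1.2⟩, hSe⟩
    rw [← hbij]
    have h1 : ∀ p ∈ B, ((B.erase p) ∩ Z).card
        = if p ∈ Z then (B ∩ Z).card - 1 else (B ∩ Z).card := by
      intro p hp
      rw [Finset.erase_inter]
      split
      · next h => rw [Finset.card_erase_of_mem (Finset.mem_inter.2 ⟨hp, h⟩)]
      · next h => rw [Finset.erase_eq_of_notMem (fun h' => h (Finset.mem_inter.1 h').2)]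
    have h2 := Finset.card_sdiff_add_card_inter B Z
    by_cases hA : (B ∩ Z).card = s
    · rw [if_pos hA, if_neg (by omega)]
      rw [show (B.filter fun p => ((B.erase p) ∩ Z).card = s) = B \ Z from ?_]
      · omega
      · ext p
        rw [Finset.mem_filter, Finset.mem_sdiff]
        constructor
        · rintro ⟨hp, h⟩
          refine ⟨hp, fun hpZ => ?_⟩
          rw [h1 p hp, if_pos hpZ] at h
          have : 0 < (B ∩ Z).card := Finset.card_pos.2 ⟨p, Finset.mem_inter.2 ⟨hp, hpZ⟩⟩
          omega
        · rintro ⟨hp, hpZ⟩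
          exact ⟨hp, by rw [h1 p hp, if_neg hpZ, hA]⟩
    · by_cases hB : (B ∩ Z).card = s + 1
      · rw [if_neg hA, if_pos hB]
        rw [show (B.filter fun p => ((B.erase p) ∩ Z).card = s) = B ∩ Z from ?_]
        · omega
        · ext p
          rw [Finset.mem_filter, Finset.mem_inter]
          constructor
          · rintro ⟨hp, h⟩
            refine ⟨hp, ?_⟩
            by_contra hpZ
            rw [h1 p hp, if_neg hpZ] at h
            exact hA h
          · rintro ⟨hp, hpZ⟩
            exact ⟨hp, by rw [h1 p hp, if_pos hpZ, hB]; omega⟩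
      · rw [if_neg hA, if_neg hB, Finset.card_eq_zero.2]
        rw [Finset.filter_eq_empty_iff]
        intro p hp
        rw [h1 p hp]
        split <;> omega
  rw [← hS, Finset.card_eq_sum_card_fiberwise hmaps, Finset.sum_congr rfl hfib,
    Finset.sum_add_distrib, ← Finset.sum_filter, ← Finset.sum_filter, Finset.sum_const,
    Finset.sum_const, smul_eq_mul, smul_eq_mul, Finset.filter_filter, Finset.filter_filter]
  simp only [blkCount]

lemma endpoints {i : ℕ} (hi : 1 ≤ i) (hT : T G i (Ω := Ω))
    (hk : ∀ S : Finset Ω, S.card = i → (C.D S).card = i + 1) {W Z : Finset Ω} (hZ : Z ⊆ W)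
    (hW : ∀ S : Finset Ω, S ⊆ W → S.card = i → C.D S ⊆ W)
    (h1 : C.blkCount i W Z 1 = 0) :
    ((W.card : ℤ) - i) * ((C.blkCount i W Z i * i.factorial : ℕ) : ℤ)
        = ((W \ Z).card : ℤ) * (Z.card.descFactorial i : ℕ)
          - (-1) ^ (i - 1) * (((W \ Z).card.descFactorial i : ℕ) * (Z.card : ℤ)) := by
  classical
  set x := (W \ Z).card
  set z := Z.card
  let β : ℕ → ℤ := fun s => ((C.blkCount i W Z s * (s.factorial * (i + 1 - s).factorial) : ℕ) : ℤ)
  let h : ℕ → ℤ := fun s => ((x.descFactorial (i + 1 - s) * z.descFactorial s : ℕ) : ℤ)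
  let e : ℕ → ℤ := fun s => ((W.card : ℤ) - i) * β s - h s
  have hN : (W.card : ℤ) = x + z := by
    have := Finset.card_sdiff_add_card_eq_card hZ
    omega
  have hstep : ∀ s < i, e (s + 1) = - e s := by
    intro s hs
    have hd := C.double_count hT hk hZ hW hs.le
    have hβ : β s + β (s + 1) = ((x.descFactorial (i - s) * z.descFactorial s : ℕ) : ℤ) := by
      simp only [β]
      rw [← Nat.cast_add]
      congr 1
      rw [Nat.descFactorial_eq_factorial_mul_choose, Nat.descFactorial_eq_factorial_mul_choose,
        show i + 1 - s = (i - s) + 1 by omega, show i + 1 - (s + 1) = i - s by omega,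
        Nat.factorial_succ, Nat.factorial_succ]
      calc C.blkCount i W Z s * (s.factorial * ((i - s + 1) * (i - s).factorial))
            + C.blkCount i W Z (s + 1) * ((s + 1) * s.factorial * (i - s).factorial)
          = (C.blkCount i W Z s * (i + 1 - s) + C.blkCount i W Z (s + 1) * (s + 1))
              * (s.factorial * (i - s).factorial) := by
            rw [show i + 1 - s = (i - s) + 1 by omega]; ring
        _ = _ := by rw [← hd]; ring
    have hh1 : h s = ((x : ℤ) - (i - s : ℕ))
        * ((x.descFactorial (i - s) * z.descFactorial s : ℕ) : ℤ) := by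
      simp only [h]
      rw [show i + 1 - s = (i - s) + 1 by omega, Nat.cast_mul, desc_succ_int, Nat.cast_mul]
      ring
    have hh2 : h (s + 1) = ((z : ℤ) - s)
        * ((x.descFactorial (i - s) * z.descFactorial s : ℕ) : ℤ) := by
      simp only [h]
      rw [show i + 1 - (s + 1) = i - s by omega, Nat.cast_mul, desc_succ_int, Nat.cast_mul]
      ring
    have hc : ((i - s : ℕ) : ℤ) = (i : ℤ) - s := by omega
    rw [hc] at hh1
    simp only [e]
    rw [hh1, hh2, show β (s + 1) = ((x.descFactorial (i - s) * z.descFactorial s : ℕ) : ℤ) - β s by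
      linarith, hN]
    ring
  have hiter : ∀ m, m + 1 ≤ i → e (m + 1) = (-1) ^ m * e 1 := by
    intro m
    induction m with
    | zero => intro _; simp
    | succ m ihm =>
      intro hm
      rw [hstep (m + 1) (by omega), ihm (by omega), pow_succ]
      ring
  have he := hiter (i - 1) (by omega)
  rw [show i - 1 + 1 = i by omega] at he
  have e1 : e 1 = - (((x.descFactorial i : ℕ) : ℤ) * (z : ℤ)) := by
    simp only [e, β, h, h1, show i + 1 - 1 = i by omega]
    simp
  have ei : e i = ((W.card : ℤ) - i) * ((C.blkCount i W Z i * i.factorial : ℕ) : ℤ)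
      - (x : ℤ) * (z.descFactorial i : ℕ) := by
    simp only [e, β, h, show i + 1 - i = 1 by omega]
    simp
  rw [e1, ei] at he
  linarith

/-- All flats of `i`-sets are trivial, `2 ≤ i < f`. -/
theorem flat_trivial {i : ℕ} (hi : 2 ≤ i) (hif : i < C.F.card) (hT : T G i (Ω := Ω)) :
    ∀ S : Finset Ω, S.card = i → C.D S = S := by
  classical
  by_contra hcon
  push Not at hcon
  obtain ⟨S0, hS0, hne⟩ := hcon
  have hgt : i < (C.D S0).card := by
    by_contra hle
    exact hne (Finset.eq_of_subset_of_card_le (C.subset_D S0) (by omega)).symm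
  have hk : ∀ S : Finset Ω, S.card = i → (C.D S).card = (C.D S0).card :=
    fun S hS => C.D_card_eq hT hS0 hS
  obtain ⟨S1, hS1F, hS1⟩ := Finset.exists_subset_card_eq hif.le
  have hkf : (C.D S0).card ≤ C.F.card := by
    rw [← hk S1 hS1]; exact Finset.card_le_card (C.D_subset_F hS1F)
  have hFclosed : ∀ S : Finset Ω, S ⊆ C.F → S.card = i → C.D S ⊆ C.F :=
    fun S hS _ => C.D_subset_F hS
  have hline := C.line_bound hi hif.le hT hk
  have hn := C.card_eq.1
  rw [hn] at hline
  rcases Nat.lt_or_ge (i + 1) (C.D S0).card with hbig | hsmall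
  · -- long lines
    have h3 : (C.F.card - (i - 2)) * 3 ≤ (C.F.card - (i - 2)) * ((C.D S0).card - (i - 1)) :=
      Nat.mul_le_mul_left _ (by omega)
    rcases Nat.lt_or_ge (C.D S0).card C.F.card with hlt | hge
    · have := C.tits hT hk hFclosed hif.le hlt
      have h4 : (i + 1) * 2 ≤ (i + 1) * ((C.D S0).card - i) := Nat.mul_le_mul_left _ (by omega)
      omega
    · have h5 := C.tits hT hk (W := Finset.univ) (fun S _ _ => Finset.subset_univ _)
        (by rw [Finset.card_univ, hn]; omega) (by rw [Finset.card_univ, hn]; omega)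
      rw [Finset.card_univ, hn] at h5
      obtain ⟨d, hd⟩ : ∃ d, (C.D S0).card = i + 2 + d := ⟨(C.D S0).card - (i + 2), by omega⟩
      rw [hd, show i + 2 + d - i = 2 + d by omega] at h5
      nlinarith
  · -- lines of size `i + 1`
    have hk1 : ∀ S : Finset Ω, S.card = i → (C.D S).card = i + 1 := fun S hS => by
      rw [hk S hS]; omega
    have hblkF : ∀ B : Finset Ω, C.IsBlk i B → ∀ A : Finset Ω,
        (∀ S : Finset Ω, S ⊆ A → S.card = i → C.D S ⊆ A) → (B \ A).card ≠ 1 := by
      intro B hB A hA h
      obtain ⟨p, hp⟩ := Finset.card_eq_one.1 h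
      have hp' : p ∈ B \ A := hp ▸ Finset.mem_singleton_self p
      rw [Finset.mem_sdiff] at hp'
      have hsub : B.erase p ⊆ A := by
        intro y hy
        by_contra hyA
        have : y ∈ B \ A := Finset.mem_sdiff.2 ⟨Finset.mem_of_mem_erase hy, hyA⟩
        rw [hp, Finset.mem_singleton] at this
        exact (Finset.mem_erase.1 hy).1 this
      refine hp'.2 (hA _ hsub (by rw [Finset.card_erase_of_mem hp'.1, hB.1]; omega) ?_)
      rw [hB.2 p hp'.1]
      exact hp'.1
    have hi3 : 3 ≤ i := by
      by_contra hlt
      obtain rfl : i = 2 := by omega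
      have : (C.D S0).card = 3 := by omega
      rw [this] at hline
      omega
    have hu1 : C.blkCount i Finset.univ C.Fᶜ 1 = 0 := by
      refine C.blkCount_eq_zero fun B _ hB h => hblkF B hB C.F hFclosed ?_
      rwa [Finset.sdiff_eq_inter_compl]
    have hend := C.endpoints (by omega) hT hk1 (W := Finset.univ) (Z := C.Fᶜ)
      (Finset.subset_univ _) (fun S _ _ => Finset.subset_univ _) hu1
    rw [← Finset.compl_eq_univ_sdiff, compl_compl, Finset.card_univ, hn, C.card_compl] at hend
    set P := C.blkCount i Finset.univ C.Fᶜ i * i.factorial with hP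
    have hfpos : 0 < C.F.card.descFactorial i := Nat.descFactorial_pos.2 hif.le
    rcases Nat.even_or_odd i with hev | hodd
    · have hpow : (-1 : ℤ) ^ (i - 1) = -1 := by
        obtain ⟨m, hm⟩ := hev
        rw [show i - 1 = 2 * (m - 1) + 1 by omega, pow_succ, pow_mul]
        simp
      rw [hpow] at hend
      have hd := C.double_count hT hk1 (W := Finset.univ) (Z := C.Fᶜ) (Finset.subset_univ _)
        (fun S _ _ => Finset.subset_univ _) (le_refl i)
      rw [Nat.sub_self, Nat.choose_zero_right, one_mul, C.card_compl,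
        show i + 1 - i = 1 by omega, mul_one] at hd
      have hle : P ≤ C.F.card.descFactorial i := by
        rw [hP, Nat.descFactorial_eq_factorial_mul_choose, hd, mul_comm i.factorial]
        exact Nat.mul_le_mul_right _ (Nat.le_add_right _ _)
      have z1 : (P : ℤ) ≤ (C.F.card.descFactorial i : ℕ) := by exact_mod_cast hle
      have z2 : (0 : ℤ) < (C.F.card.descFactorial i : ℕ) := by exact_mod_cast hfpos
      have z3 : (i : ℤ) < (C.F.card : ℤ) := by exact_mod_cast hif
      have z4 : (3 : ℤ) ≤ i := by exact_mod_cast hi3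
      push_cast at hend z1 z2
      nlinarith [mul_le_mul_of_nonneg_left z1 (show (0 : ℤ) ≤ 2 * (C.F.card : ℤ) - i by linarith)]
    · have hpow : (-1 : ℤ) ^ (i - 1) = 1 := by
        obtain ⟨m, hm⟩ := hodd
        rw [show i - 1 = 2 * m by omega, pow_mul]
        simp
      rw [hpow] at hend
      have hP0 : P = 0 := by
        have z3 : (i : ℤ) < (C.F.card : ℤ) := by exact_mod_cast hif
        have : ((2 * C.F.card : ℕ) : ℤ) - i ≠ 0 := by push_cast; linarith
        have h0 : (((2 * C.F.card : ℕ) : ℤ) - i) * (P : ℤ) = 0 := by rw [hend]; ring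
        exact_mod_cast (mul_eq_zero.1 h0).resolve_left this
      have hM0 : C.blkCount i Finset.univ C.Fᶜ i = 0 :=
        (mul_eq_zero.1 (hP ▸ hP0 : C.blkCount i Finset.univ C.Fᶜ i * i.factorial = 0)).resolve_right
          i.factorial_ne_zero
      have hMclosed : ∀ S : Finset Ω, S ⊆ C.Fᶜ → S.card = i → C.D S ⊆ C.Fᶜ := by
        intro S hS hSc
        have hB := C.isBlk_D hT hk1 hSc
        have h1 : S ⊆ C.D S ∩ C.Fᶜ := Finset.subset_inter (C.subset_D S) hS
        have h2 := Finset.card_le_card h1
        have h3 : (C.D S ∩ C.Fᶜ).card ≠ i :=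
          C.exists_of_blkCount_zero hM0 (Finset.subset_univ _) hB
        exact Finset.inter_eq_left.1
          (Finset.eq_of_subset_of_card_le Finset.inter_subset_left (by rw [hk1 S hSc]; omega))
      obtain ⟨z0, hz0⟩ := C.moved
      rcases Nat.lt_or_ge (i + 1) C.F.card with hlt | hge
      · have ht := C.tits hT hk1 hFclosed hif.le hlt
        rw [Nat.add_sub_cancel_left, mul_one] at ht
        have hhalf : ∀ B ∈ C.translates, B ≠ C.F → 2 * (B ∩ C.F).card = C.F.card := by
          intro B hB hBne
          obtain ⟨g, rfl⟩ := C.mem_translates.1 hB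
          set W := g • C.F with hWdef
          have hWc : W.card = C.F.card := C.card_smulF g
          have hWclosed : ∀ S : Finset Ω, S ⊆ W → S.card = i → C.D S ⊆ W :=
            fun S hS _ => C.D_subset_smul hS
          have hsd : W \ (W \ C.F) = W ∩ C.F := by
            rw [Finset.sdiff_sdiff_self_left]
          have hx0 : 0 < (W ∩ C.F).card := by
            rw [Finset.card_pos]
            by_contra hempty
            rw [Finset.not_nonempty_iff_eq_empty] at hempty
            refine C.blocking hz0 (g := g) fun k hk => ?_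
            have hWM : W = C.Fᶜ := by
              refine Finset.eq_of_subset_of_card_le (fun y hy => Finset.mem_compl.2 fun hyF => ?_)
                (by rw [C.card_compl, hWc])
              exact Finset.notMem_empty y (hempty ▸ Finset.mem_inter.2 ⟨hy, hyF⟩)
            rw [← hWdef, hWM, Finset.mem_compl]
            intro hkz
            refine hz0 ?_
            have := (C.hF _).1 hkz k⁻¹ (inv_mem hk)
            rw [inv_smul_smul] at this
            rw [this]; exact hkz
          have hz0' : 0 < (W \ C.F).card := by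
            rw [Finset.card_pos, Finset.sdiff_nonempty]
            exact fun h => hBne (Finset.eq_of_subset_of_card_le h (by rw [hWc]))
          have b1 : C.blkCount i W (W \ C.F) 1 = 0 := by
            refine C.blkCount_eq_zero fun B' hB'W hB' h => hblkF B' hB' C.F hFclosed ?_
            rw [← h]
            congr 1
            ext y
            simp only [Finset.mem_sdiff, Finset.mem_inter]
            exact ⟨fun h => ⟨h.1, hB'W h.1, h.2⟩, fun h => ⟨h.1, h.2.2⟩⟩
          have bi : C.blkCount i W (W \ C.F) i = 0 := by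
            refine C.blkCount_eq_zero fun B' hB'W hB' h => hblkF B' hB' C.Fᶜ hMclosed ?_
            have h1 := Finset.card_sdiff_add_card_inter B' C.Fᶜ
            have h2 : B' ∩ (W \ C.F) = B' ∩ C.Fᶜ := by
              ext y
              simp only [Finset.mem_inter, Finset.mem_sdiff, Finset.mem_compl]
              exact ⟨fun h => ⟨h.1, h.2.2⟩, fun h => ⟨h.1, hB'W h.1, h.2⟩⟩
            rw [h2] at h
            have := hB'.1
            omega
          have he := C.endpoints (by omega) hT hk1 (Z := W \ C.F) Finset.sdiff_subset hWclosed b1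
          rw [bi, zero_mul, Nat.cast_zero, mul_zero, hpow, one_mul, hsd] at he
          have hxz : (W ∩ C.F).card + (W \ C.F).card = C.F.card := by
            rw [← hWc, add_comm, Finset.card_sdiff_add_card_inter]
          have heq : (W ∩ C.F).card * (W \ C.F).card.descFactorial i
              = (W ∩ C.F).card.descFactorial i * (W \ C.F).card := by
            have : ((W ∩ C.F).card : ℤ) * ((W \ C.F).card.descFactorial i : ℕ)
              = ((W ∩ C.F).card.descFactorial i : ℕ) * ((W \ C.F).card : ℤ) := by linarith
            exact_mod_cast this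
          obtain ⟨x, hx⟩ : ∃ x, (W ∩ C.F).card = x + 1 := ⟨(W ∩ C.F).card - 1, by omega⟩
          obtain ⟨z, hz⟩ : ∃ z, (W \ C.F).card = z + 1 := ⟨(W \ C.F).card - 1, by omega⟩
          rw [hx, hz, show i = (i - 1) + 1 by omega, Nat.succ_descFactorial_succ,
            Nat.succ_descFactorial_succ] at heq
          have heq' : z.descFactorial (i - 1) = x.descFactorial (i - 1) := by
            have h' : (x + 1) * (z + 1) * z.descFactorial (i - 1)
              = (x + 1) * (z + 1) * x.descFactorial (i - 1) := by linarith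
            exact Nat.eq_of_mul_eq_mul_left (by positivity) h'
          rcases Nat.lt_trichotomy x z with hlt' | heq'' | hgt'
          · have := desc_lt (i - 1) x z (by omega) (by omega) hlt'
            omega
          · omega
          · have := desc_lt (i - 1) z x (by omega) (by omega) hgt'
            omega
        -- against the average
        obtain ⟨a, ha⟩ := C.F_nonempty
        let ρ := (C.translates.filter fun B => a ∈ B).card
        have hρ : ∀ y, (C.translates.filter fun B => y ∈ B).card = ρ :=
          fun y => C.card_mem_translates y a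
        have hcount : ∀ V : Finset Ω, ∑ B ∈ C.translates, (B ∩ V).card = V.card * ρ := by
          intro V
          have h := Finset.sum_card_bipartiteAbove_eq_sum_card_bipartiteBelow
            (fun (B : Finset Ω) (y : Ω) => y ∈ B) (s := C.translates) (t := V)
          rw [Finset.sum_congr rfl (g := fun B : Finset Ω => (B ∩ V).card) (fun B _ => ?_),
            Finset.sum_congr rfl (s₂ := V) (g := fun _ => ρ) (fun y _ => ?_), Finset.sum_const,
            smul_eq_mul] at h
          · exact h
          · rw [← hρ y]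
            rfl
          · congr 1
            ext y
            simp [Finset.mem_bipartiteAbove, and_comm]
        have e1 := hcount Finset.univ
        rw [Finset.sum_congr rfl (g := fun _ => C.F.card) (fun B hB => ?_), Finset.sum_const,
          smul_eq_mul, Finset.card_univ, hn] at e1
        · have e2 := hcount C.F
          have hFmem : C.F ∈ C.translates := C.mem_translates.2 ⟨1, one_smul _ _⟩
          rw [← Finset.add_sum_erase _ _ hFmem, Finset.inter_self] at e2
          have e3 : 2 * ∑ B ∈ C.translates.erase C.F, (B ∩ C.F).card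
              = (C.translates.card - 1) * C.F.card := by
            rw [Finset.mul_sum, Finset.sum_congr rfl (g := fun _ => C.F.card) (fun B hB =>
              hhalf B (Finset.mem_erase.1 hB).2 (Finset.mem_erase.1 hB).1), Finset.sum_const,
              smul_eq_mul, Finset.card_erase_of_mem hFmem]
          obtain ⟨b, hb⟩ : ∃ b, C.translates.card = b + 1 :=
            ⟨C.translates.card - 1, by have := Finset.card_pos.2 ⟨_, hFmem⟩; omega⟩
          rw [hb] at e1 e3
          rw [Nat.add_sub_cancel] at e3
          have : 0 < C.F.card := by omega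
          nlinarith
        · obtain ⟨g, rfl⟩ := C.mem_translates.1 hB
          rw [Finset.inter_univ, C.card_smulF]
      · -- `F` is a single block, hence so is its complement
        obtain ⟨S, hSM, hS⟩ := Finset.exists_subset_card_eq
          (show i ≤ C.Fᶜ.card by rw [C.card_compl]; omega)
        have hDS : C.D S = C.Fᶜ := Finset.eq_of_subset_of_card_le (hMclosed S hSM hS)
          (by rw [C.card_compl, hk1 S hS]; omega)
        obtain ⟨g, hg⟩ := C.exists_translate hT hif.le hS.le
        refine C.blocking hz0 (g := g) fun k hk => C.D_subset_smul hg ?_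
        rw [hDS, Finset.mem_compl]
        intro hkz
        refine hz0 ?_
        have := (C.hF _).1 hkz k⁻¹ (inv_mem hk)
        rw [inv_smul_smul] at this
        rw [this]; exact hkz

end Ctx

end Cfsg.Agent.HalfFixed36
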