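import Cfsg.Agent.Lib.HalfFixed36.Energy
import Cfsg.Agent.Lib.HalfFixed36.Steiner

/-!
A nontrivial pronormal subgroup of a transitive group of degree `n` fixes fewer than `n / 2` points.
-/

set_option autoImplicit false
set_option linter.unusedSectionVars false

open scoped Pointwise

namespace Cfsg.Agent.HalfFixed36

namespace Ctx

variable {G Ω : Type} [Group G] [MulAction G Ω] [Fintype Ω] [DecidableEq Ω] (C : Ctx G Ω)

include C in
lemma T_succ {i : ℕ} (hi : 2 ≤ i) (hif : i < C.F.card) (hT : T G i (Ω := Ω)) :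
    T G (i + 1) (Ω := Ω) := by
  classical
  intro Y hY z w hz hw
  by_cases hYi : Y.card < i
  · exact hT Y hYi z w hz hw
  · have hYc : Y.card = i := by omega
    have hflat := C.flat_trivial hi hif hT
    obtain ⟨S, hSF, hS⟩ := Finset.exists_subset_card_eq hif.le
    obtain ⟨g, hg⟩ := exists_map_finset hT i le_rfl S Y hS hYc
    subst hg
    rw [← Finset.inv_smul_mem_iff] at hz hw
    by_contra hcon
    have hzw : ¬ ∃ h ∈ fix (G := G) S, h • (g⁻¹ • z) = g⁻¹ • w := by
      rintro ⟨h, hh, e⟩
      refine hcon ⟨g * h * g⁻¹, mem_fix.2 fun y hy => ?_, ?_⟩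
      · rw [← Finset.inv_smul_mem_iff] at hy
        rw [mul_smul, mul_smul, mem_fix.1 hh _ hy, smul_inv_smul]
      · rw [mul_smul, mul_smul, e, smul_inv_smul]
    rcases Nat.lt_or_ge i 3 with h2 | h3
    · obtain rfl : i = 2 := by omega
      obtain ⟨a, b, hab, rfl⟩ := Finset.card_eq_two.1 hS
      simp only [Finset.mem_insert, Finset.mem_singleton, not_or] at hz hw
      exact C.no_tournament hflat (hSF (by simp)) (hSF (by simp)) hab hz.1 hz.2 hw.1 hw.2 hzw
    · exact C.no_split h3 hif hT hflat hSF hS hz hw hzw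

lemma two_le : 2 ≤ C.F.card := by
  by_contra hlt
  obtain ⟨z, hz⟩ := C.moved
  have hF := C.card_compl
  have hmem : z ∈ C.Fᶜ := Finset.mem_compl.2 hz
  have hone : ∀ x ∈ C.Fᶜ, x = z := fun x hx => Finset.card_le_one.1 (by omega) x hx z hmem
  refine hz ((C.hF z).2 fun k hk => ?_)
  refine hone _ (Finset.mem_compl.2 fun hkF => hz ?_)
  have := (C.hF _).1 hkF k⁻¹ (inv_mem hk)
  rw [inv_smul_smul] at this
  rw [this]
  exact hkF

include C in
theorem absurd_ctx : False := by
  have h2 := C.two_le
  have key : ∀ i, 2 ≤ i → i ≤ C.F.card → T G i (Ω := Ω) := by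
    intro i hi
    induction i, hi using Nat.le_induction with
    | base => exact fun _ => C.T_two
    | succ i hi ih => exact fun hle => C.T_succ hi (by omega) (ih (by omega))
  exact C.not_T (key _ h2 le_rfl)

end Ctx

theorem half_below : ∀ m : ℕ, HalfBelow m := by
  intro m
  induction m with
  | zero => intro G Ω _ _ _ _ h; omega
  | succ m ih =>
    intro G Ω _ _ _ _ hm htr K F hF hmoved hpro
    rcases Nat.lt_or_ge (Fintype.card Ω) m with h | h
    · exact ih G Ω h htr K F hF hmoved hpro
    · by_contra hcon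
      have hm' : Fintype.card Ω = m := by omega
      exact Ctx.absurd_ctx
        { K := K, F := F, hF := hF, moved := hmoved, pro := hpro, trans := htr,
          ih := hm'.symm ▸ ih, big := by omega : Ctx G Ω }

end Cfsg.Agent.HalfFixed36
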