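import Cfsg.Agent.Lib.HalfFixed36.Transitive

/-!
The step from 2-fold to 3-fold transitivity: two suborbits would give a doubly regular tournament
with a non-identity automorphism fixing half of its points.
-/

set_option autoImplicit false
set_option linter.unusedSectionVars false

open scoped Pointwise

namespace Cfsg.Agent.HalfFixed36

/-- an irreflexive symmetric relation has an even number of pairs -/
lemma even_pairs {α : Type} [Fintype α] [DecidableEq α] (P : Finset (α × α))
    (hirr : ∀ x, (x, x) ∉ P) (hsym : ∀ x y, (x, y) ∈ P → (y, x) ∈ P) : Even P.card := by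
  classical
  let e := Fintype.equivFin α
  have hsplit := Finset.card_filter_add_card_filter_not (s := P) (p := fun q => e q.1 < e q.2)
  have hb : (P.filter fun q => ¬ e q.1 < e q.2).card = (P.filter fun q => e q.1 < e q.2).card := by
    refine Finset.card_bij' (fun q _ => Prod.swap q) (fun q _ => Prod.swap q) (fun q hq => ?_)
      (fun q hq => ?_) (fun q _ => Prod.swap_swap q) (fun q _ => Prod.swap_swap q)
    · rw [Finset.mem_filter] at hq ⊢
      refine ⟨hsym _ _ hq.1, lt_of_le_of_ne (not_lt.1 hq.2) fun he => ?_⟩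
      have h12 : q.1 = q.2 := (e.injective he).symm
      exact hirr q.1 (by
        have : q = (q.1, q.1) := Prod.ext rfl h12.symm
        exact this ▸ hq.1)
    · rw [Finset.mem_filter] at hq ⊢
      exact ⟨hsym _ _ hq.1, not_lt.2 hq.2.le⟩
  exact ⟨(P.filter fun q => e q.1 < e q.2).card, by omega⟩

/-- In a tournament on `U` each `k`-set spans `k (k-1) / 2` arcs. -/
lemma card_arcs_in {α : Type} [DecidableEq α] (R : α → α → Prop) [DecidableRel R] (A : Finset α)
    (hirr : ∀ x ∈ A, ¬ R x x) (htot : ∀ x ∈ A, ∀ y ∈ A, x ≠ y → R x y ∨ R y x)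
    (hasym : ∀ x ∈ A, ∀ y ∈ A, R x y → ¬ R y x) :
    2 * ((A ×ˢ A).filter fun q => R q.1 q.2).card + A.card = A.card * A.card := by
  have h1 : ((A ×ˢ A).filter fun q => R q.2 q.1).card = ((A ×ˢ A).filter fun q => R q.1 q.2).card := by
    refine Finset.card_bij' (fun q _ => Prod.swap q) (fun q _ => Prod.swap q) (fun q hq => ?_)
      (fun q hq => ?_) (fun q _ => Prod.swap_swap q) (fun q _ => Prod.swap_swap q) <;>
    · simp only [Finset.mem_filter, Finset.mem_product, Prod.fst_swap, Prod.snd_swap] at hq ⊢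
      tauto
  have hunion : A.offDiag = ((A ×ˢ A).filter fun q => R q.1 q.2) ∪ ((A ×ˢ A).filter fun q => R q.2 q.1) := by
    ext ⟨x, y⟩
    simp only [Finset.mem_offDiag, Finset.mem_union, Finset.mem_filter, Finset.mem_product]
    constructor
    · rintro ⟨hx, hy, hxy⟩
      rcases htot x hx y hy hxy with h | h <;> tauto
    · rintro (⟨⟨hx, hy⟩, h⟩ | ⟨⟨hx, hy⟩, h⟩) <;> refine ⟨hx, hy, fun he => ?_⟩ <;>
        exact hirr x hx (by simpa [← he] using h)
  have hdis : Disjoint ((A ×ˢ A).filter fun q => R q.1 q.2) ((A ×ˢ A).filter fun q => R q.2 q.1) := by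
    rw [Finset.disjoint_left]
    rintro ⟨x, y⟩ h1 h2
    simp only [Finset.mem_filter, Finset.mem_product] at h1 h2
    exact hasym x h1.1.1 y h1.1.2 h1.2 h2.2
  have := congrArg Finset.card hunion
  rw [Finset.card_union_of_disjoint hdis, h1, Finset.offDiag_card] at this
  have hle : A.card ≤ A.card * A.card := Nat.le_mul_self _
  omega

/-- double counting of common neighbours over the arcs -/
lemma common_count {α : Type} [Fintype α] [DecidableEq α] (R R' : α → α → Prop) [DecidableRel R]
    [DecidableRel R'] (U : Finset α) (k lam : ℕ) (hk : 0 < k)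
    (hmemout : ∀ x y, R x y → x ∈ U ∧ y ∈ U)
    (hout : ∀ x ∈ U, (Finset.univ.filter fun y => R x y).card = k)
    (hmem' : ∀ x w, R' x w → x ∈ U ∧ w ∈ U)
    (hin' : ∀ w ∈ U, (Finset.univ.filter fun x => R' x w).card = k)
    (hirr : ∀ x, ¬ R x x) (htot : ∀ x ∈ U, ∀ y ∈ U, x ≠ y → R x y ∨ R y x)
    (hasym : ∀ x y, R x y → ¬ R y x)
    (hU : U.Nonempty)
    (hlam : ∀ x y, R x y → (Finset.univ.filter fun w => R' x w ∧ R' y w).card = lam) :
    2 * lam + 1 = k := by
  classical
  let arcs : Finset (α × α) := Finset.univ.filter fun q => R q.1 q.2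
  have harcs : arcs.card = U.card * k := by
    rw [Finset.card_eq_sum_card_fiberwise (s := arcs) (t := U) (f := Prod.fst) (fun q hq => by
      simp only [arcs, Finset.coe_filter, Finset.mem_univ, true_and, Set.mem_ofPred_eq] at hq
      exact (hmemout _ _ hq).1)]
    rw [Finset.sum_congr rfl (g := fun _ => k) (fun x hx => ?_), Finset.sum_const, smul_eq_mul]
    rw [← hout x hx]
    refine Finset.card_bij' (fun q _ => q.2) (fun y _ => (x, y)) (fun q hq => ?_) (fun y hy => ?_)
      (fun q hq => ?_) (fun y _ => rfl)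
    · simp only [arcs, Finset.mem_filter, Finset.mem_univ, true_and] at hq ⊢
      exact hq.2 ▸ hq.1
    · simp only [arcs, Finset.mem_filter, Finset.mem_univ, true_and, and_true] at hy ⊢
      exact hy
    · simp only [Finset.mem_filter] at hq
      exact Prod.ext hq.2.symm rfl
  have hsum := Finset.sum_card_bipartiteAbove_eq_sum_card_bipartiteBelow
    (fun (q : α × α) (w : α) => R' q.1 w ∧ R' q.2 w) (s := arcs) (t := U)
  rw [Finset.sum_congr rfl (g := fun _ => lam) (fun q hq => ?_), Finset.sum_const, smul_eq_mul,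
    harcs] at hsum
  · have hw : ∀ w ∈ U,
        2 * (Finset.bipartiteBelow (fun (q : α × α) (w : α) => R' q.1 w ∧ R' q.2 w) arcs w).card
          + k = k * k := by
      intro w hwU
      rw [← hin' w hwU]
      let A := Finset.univ.filter fun x => R' x w
      have hA : ∀ x ∈ A, x ∈ U := fun x hx => (hmem' x w (Finset.mem_filter.1 hx).2).1
      have := card_arcs_in R A (fun x _ => hirr x) (fun x hx y hy => htot x (hA x hx) y (hA y hy))
        (fun x _ y _ => hasym x y)
      have heq : Finset.bipartiteBelow (fun (q : α × α) (w : α) => R' q.1 w ∧ R' q.2 w) arcs w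
          = (A ×ˢ A).filter fun q => R q.1 q.2 := by
        ext q
        simp only [Finset.mem_bipartiteBelow, arcs, A, Finset.mem_filter, Finset.mem_product,
          Finset.mem_univ, true_and]
        tauto
      rw [heq]
      exact this
    have h2 : 2 * ∑ w ∈ U, (Finset.bipartiteBelow
        (fun (q : α × α) (w : α) => R' q.1 w ∧ R' q.2 w) arcs w).card + U.card * k
        = U.card * (k * k) := by
      rw [Finset.mul_sum, ← smul_eq_mul (a := U.card), ← Finset.sum_const, ← Finset.sum_add_distrib,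
        Finset.sum_congr rfl hw, Finset.sum_const, smul_eq_mul]
    rw [← hsum] at h2
    have hpos : 0 < U.card * k := Nat.mul_pos hU.card_pos hk
    have : U.card * k * (2 * lam + 1) = U.card * k * k := by rw [mul_add]; linarith
    exact Nat.eq_of_mul_eq_mul_left hpos this
  · simp only [arcs, Finset.mem_filter, Finset.mem_univ, true_and] at hq
    rw [← hlam _ _ hq]
    congr 1
    ext w
    simp only [Finset.mem_bipartiteAbove, Finset.mem_filter, Finset.mem_univ, true_and]
    exact ⟨fun h => h.2, fun h => ⟨(hmem' _ _ h.1).2, h⟩⟩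

namespace Ctx

variable {G Ω : Type} [Group G] [MulAction G Ω] [Fintype Ω] [DecidableEq Ω] (C : Ctx G Ω)

/-- No two-element flat `{a,b} ⊆ F` has two orbits of its stabiliser outside it. -/
theorem no_tournament (hflat : ∀ S : Finset Ω, S.card = 2 → C.D S = S) {a b z w : Ω}
    (ha : a ∈ C.F) (hb : b ∈ C.F) (hab : a ≠ b) (hza : z ≠ a) (hzb : z ≠ b) (hwa : w ≠ a)
    (hwb : w ≠ b) (hzw : ¬ ∃ h ∈ fix (G := G) {a, b}, h • z = w) : False := by
  classical
  let R : Ω → Ω → Prop := fun x y => ∃ h ∈ fix (G := G) {a}, h • b = x ∧ h • z = y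
  let U : Finset Ω := Finset.univ.erase a
  have hfa : ∀ h ∈ fix (G := G) {a}, h • a = a := fun h hh =>
    mem_fix.1 hh a (Finset.mem_singleton_self a)
  have hne_a : ∀ h ∈ fix (G := G) {a}, ∀ x, x ≠ a → h • x ≠ a := fun h hh x hx he =>
    hx (smul_left_cancel h (he.trans (hfa h hh).symm))
  have hmem : ∀ x y, R x y → x ∈ U ∧ y ∈ U := by
    rintro x y ⟨h, hh, rfl, rfl⟩
    simp [U, hne_a h hh b hab.symm, hne_a h hh z hza]
  have hinv : ∀ g ∈ fix (G := G) {a}, ∀ x y, R x y → R (g • x) (g • y) := by
    rintro g hg x y ⟨h, hh, rfl, rfl⟩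
    exact ⟨g * h, mul_mem hg hh, mul_smul _ _ _, mul_smul _ _ _⟩
  have hinv' : ∀ g ∈ fix (G := G) {a}, ∀ x y, (R (g • x) (g • y) ↔ R x y) := by
    refine fun g hg x y => ⟨fun h => ?_, hinv g hg x y⟩
    have := hinv g⁻¹ (inv_mem hg) _ _ h
    rwa [inv_smul_smul, inv_smul_smul] at this
  have htr : ∀ x ∈ U, ∃ g ∈ fix (G := G) {a}, g • b = x := fun x hx =>
    C.card_eq.2 a ha b x hab.symm (Finset.mem_erase.1 hx).1
  have hirr : ∀ x, ¬ R x x := by
    rintro x ⟨h, -, e1, e2⟩
    exact hzb (smul_left_cancel h (e2.trans e1.symm))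
  have hbU : b ∈ U := by simp [U, hab.symm]
  -- degrees
  let k := (Finset.univ.filter fun y => R b y).card
  let k' := (Finset.univ.filter fun y => R y b).card
  have hout : ∀ x ∈ U, (Finset.univ.filter fun y => R x y).card = k := by
    intro x hx
    obtain ⟨g, hg, rfl⟩ := htr x hx
    refine (Finset.card_bij (fun y _ => g • y) (fun y hy => ?_) (fun _ _ _ _ h => smul_left_cancel g h)
      (fun y hy => ?_)).symm
    · simpa [hinv' g hg] using hy
    · refine ⟨g⁻¹ • y, ?_, smul_inv_smul g y⟩
      simp only [Finset.mem_filter, Finset.mem_univ, true_and] at hy ⊢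
      rwa [← hinv' g hg, smul_inv_smul]
  have hin : ∀ x ∈ U, (Finset.univ.filter fun y => R y x).card = k' := by
    intro x hx
    obtain ⟨g, hg, rfl⟩ := htr x hx
    refine (Finset.card_bij (fun y _ => g • y) (fun y hy => ?_) (fun _ _ _ _ h => smul_left_cancel g h)
      (fun y hy => ?_)).symm
    · simpa [hinv' g hg] using hy
    · refine ⟨g⁻¹ • y, ?_, smul_inv_smul g y⟩
      simp only [Finset.mem_filter, Finset.mem_univ, true_and] at hy ⊢
      rwa [← hinv' g hg, smul_inv_smul]
  have hUcard : U.card = 2 * C.F.card - 1 := by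
    rw [Finset.card_erase_of_mem (Finset.mem_univ a), Finset.card_univ, C.card_eq.1]
  have hUpos : 0 < U.card := Finset.card_pos.2 ⟨b, hbU⟩
  have hkk : k' = k := by
    have h := Finset.sum_card_bipartiteAbove_eq_sum_card_bipartiteBelow R (s := U) (t := U)
    rw [Finset.sum_congr rfl (g := fun _ => k) (fun x hx => ?_), Finset.sum_const,
      Finset.sum_congr rfl (g := fun _ => k') (fun x hx => ?_), Finset.sum_const, smul_eq_mul,
      smul_eq_mul] at h
    · exact (Nat.eq_of_mul_eq_mul_left hUpos h).symm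
    · rw [← hin x hx]
      congr 1
      ext y
      simp only [Finset.mem_bipartiteBelow, Finset.mem_filter, Finset.mem_univ, true_and]
      exact ⟨fun h => h.2, fun h => ⟨(hmem _ _ h).1, h⟩⟩
    · rw [← hout x hx]
      congr 1
      ext y
      simp only [Finset.mem_bipartiteAbove, Finset.mem_filter, Finset.mem_univ, true_and]
      exact ⟨fun h => h.2, fun h => ⟨(hmem _ _ h).2, h⟩⟩
  -- the orbit partition at `b`
  let S : Finset Ω := {a, b}
  have hS2 : S.card = 2 := Finset.card_pair hab
  have hSF : S ⊆ C.F := by simp [S, Finset.insert_subset_iff, ha, hb]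
  have hle : fix (G := G) S ≤ fix {a} := fix_anti (by simp [S])
  have hfb : ∀ h ∈ fix (G := G) S, h • b = b := fun h hh => mem_fix.1 hh b (by simp [S])
  let Δ := Finset.univ.filter fun y => R b y
  let In := Finset.univ.filter fun y => R y b
  let E := (Finset.univ.erase a).erase b
  have hΔE : Δ ⊆ E := by
    intro y hy
    simp only [Δ, Finset.mem_filter, Finset.mem_univ, true_and] at hy
    refine Finset.mem_erase.2 ⟨?_, (hmem _ _ hy).2⟩
    rintro rfl; exact hirr _ hy
  have hInE : In ⊆ E := by
    intro y hy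
    simp only [In, Finset.mem_filter, Finset.mem_univ, true_and] at hy
    refine Finset.mem_erase.2 ⟨?_, (hmem _ _ hy).1⟩
    rintro rfl; exact hirr _ hy
  have hzΔ : z ∈ Δ := by
    simp only [Δ, Finset.mem_filter, Finset.mem_univ, true_and]
    exact ⟨1, one_mem _, one_smul _ _, one_smul _ _⟩
  have hwΔ : w ∉ Δ := by
    simp only [Δ, Finset.mem_filter, Finset.mem_univ, true_and]
    rintro ⟨h, hh, e1, e2⟩
    refine hzw ⟨h, mem_fix.2 fun y hy => ?_, e2⟩
    rw [Finset.mem_insert, Finset.mem_singleton] at hy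
    rcases hy with rfl | rfl
    · exact hfa h hh
    · exact e1
  have hdef : ∀ W : Finset Ω, W.Nonempty → W ⊆ E →
      (∀ h ∈ fix (G := G) S, ∀ x ∈ W, h • x ∈ W) → 2 * (W ∩ C.F).card + 1 ≤ W.card := by
    intro W hne hsub hW
    refine C.deficit hSF ⟨a, by simp [S]⟩ W hne (fun x hx hxD => ?_) hW
    rw [hflat S hS2] at hxD
    have := hsub hx
    simp [E, S] at this hxD
    tauto
  have hΔinv : ∀ h ∈ fix (G := G) S, ∀ x ∈ Δ, h • x ∈ Δ := by
    intro h hh x hx
    simp only [Δ, Finset.mem_filter, Finset.mem_univ, true_and] at hx ⊢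
    have := hinv h (hle hh) _ _ hx
    rwa [hfb h hh] at this
  have hIninv : ∀ h ∈ fix (G := G) S, ∀ x ∈ In, h • x ∈ In := by
    intro h hh x hx
    simp only [In, Finset.mem_filter, Finset.mem_univ, true_and] at hx ⊢
    have := hinv h (hle hh) _ _ hx
    rwa [hfb h hh] at this
  have hEinv : ∀ h ∈ fix (G := G) S, ∀ x ∈ E, h • x ∈ E := by
    intro h hh x hx
    simp only [E, Finset.mem_erase, Finset.mem_univ, and_true] at hx ⊢
    exact ⟨fun he => hx.1 (smul_left_cancel h (he.trans (hfb h hh).symm)), hne_a h (hle hh) x hx.2⟩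
  have hsdiff : ∀ A B : Finset Ω, (∀ h ∈ fix (G := G) S, ∀ x ∈ A, h • x ∈ A) →
      (∀ h ∈ fix (G := G) S, ∀ x ∈ B, h • x ∈ B) →
      ∀ h ∈ fix (G := G) S, ∀ x ∈ A \ B, h • x ∈ A \ B := by
    intro A B hA hB h hh x hx
    rw [Finset.mem_sdiff] at hx ⊢
    exact ⟨hA h hh x hx.1, fun hx' => hx.2 (by simpa using hB h⁻¹ (inv_mem hh) _ hx')⟩
  have hEcard : E.card = 2 * C.F.card - 2 := by
    rw [Finset.card_erase_of_mem hbU, hUcard]; omega
  have hEF : (E ∩ C.F).card = C.F.card - 2 := by
    rw [Finset.erase_inter, Finset.erase_inter, Finset.univ_inter, Finset.card_erase_of_mem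
      (Finset.mem_erase.2 ⟨hab.symm, hb⟩), Finset.card_erase_of_mem ha]
    omega
  have hF2 : 2 ≤ C.F.card := hS2 ▸ Finset.card_le_card hSF
  have hsplit : ∀ A B : Finset Ω, B ⊆ A → (A ∩ C.F).card = (B ∩ C.F).card + ((A \ B) ∩ C.F).card ∧
      A.card = B.card + (A \ B).card := by
    intro A B hBA
    constructor
    · rw [← Finset.card_union_of_disjoint, ← Finset.union_inter_distrib_right,
        Finset.union_sdiff_of_subset hBA]
      exact (Finset.disjoint_sdiff).mono Finset.inter_subset_left Finset.inter_subset_left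
    · rw [Finset.card_sdiff_of_subset hBA]
      have := Finset.card_le_card hBA
      omega
  have hd1 := hdef Δ ⟨z, hzΔ⟩ hΔE hΔinv
  have hd2 := hdef (E \ Δ) ⟨w, Finset.mem_sdiff.2 ⟨by simp [E, hwa, hwb], hwΔ⟩⟩ Finset.sdiff_subset
    (hsdiff E Δ hEinv hΔinv)
  obtain ⟨hs1, hs2⟩ := hsplit E Δ hΔE
  have hkodd : k = 2 * (Δ ∩ C.F).card + 1 := by
    show Δ.card = _
    omega
  -- the relation is a tournament
  have hnotsym : ¬ R z b := by
    intro hzb'
    have hsym : ∀ x y, R x y → R y x := by
      rintro x y ⟨h, hh, rfl, rfl⟩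
      exact hinv h hh _ _ hzb'
    let P : Finset (Ω × Ω) := Finset.univ.filter fun q => R q.1 q.2
    have hPcard : P.card = U.card * k := by
      rw [Finset.card_eq_sum_card_fiberwise (s := P) (t := U) (f := Prod.fst) (fun q hq => by
        simp only [P, Finset.coe_filter, Finset.mem_univ, true_and, Set.mem_ofPred_eq] at hq
        exact (hmem _ _ hq).1)]
      rw [Finset.sum_congr rfl (g := fun _ => k) (fun x hx => ?_), Finset.sum_const, smul_eq_mul]
      rw [← hout x hx]
      refine Finset.card_bij' (fun q _ => q.2) (fun y _ => (x, y)) (fun q hq => ?_) (fun y hy => ?_)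
        (fun q hq => ?_) (fun y _ => rfl)
      · simp only [P, Finset.mem_filter, Finset.mem_univ, true_and] at hq ⊢
        exact hq.2 ▸ hq.1
      · simp only [P, Finset.mem_filter, Finset.mem_univ, true_and, and_true] at hy ⊢
        exact hy
      · simp only [Finset.mem_filter] at hq
        exact Prod.ext hq.2.symm rfl
    have hev := even_pairs P (fun x => by simpa [P] using hirr x)
      (fun x y h => by simpa [P] using hsym x y (by simpa [P] using h))
    rw [hPcard, Nat.even_mul, Nat.even_iff, Nat.even_iff] at hev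
    omega
  have hasym : ∀ x y, R x y → ¬ R y x := by
    rintro x y ⟨h, hh, rfl, rfl⟩ h'
    exact hnotsym ((hinv' h hh _ _).1 h')
  have hInsub : In ⊆ E \ Δ := by
    intro y hy
    refine Finset.mem_sdiff.2 ⟨hInE hy, fun hyΔ => ?_⟩
    simp only [In, Δ, Finset.mem_filter, Finset.mem_univ, true_and] at hy hyΔ
    exact hasym _ _ hy hyΔ
  have hIneq : In = E \ Δ := by
    by_contra hne
    have hrest : ((E \ Δ) \ In).Nonempty := by
      rw [Finset.nonempty_iff_ne_empty]
      intro he
      exact hne (Finset.Subset.antisymm hInsub (Finset.sdiff_eq_empty_iff_subset.1 he))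
    have hd3 := hdef _ hrest ((Finset.sdiff_subset).trans Finset.sdiff_subset)
      (hsdiff _ _ (hsdiff E Δ hEinv hΔinv) hIninv)
    have hInne : In.Nonempty := by
      rw [← Finset.card_pos]
      show 0 < k'
      omega
    have hd4 := hdef In hInne hInE hIninv
    obtain ⟨hs3, hs4⟩ := hsplit (E \ Δ) In hInsub
    omega
  have hk : k + 1 = C.F.card := by
    have : In.card = k' := rfl
    rw [hIneq] at this
    have : Δ.card = k := rfl
    omega
  have htot : ∀ x ∈ U, ∀ y ∈ U, x ≠ y → R x y ∨ R y x := by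
    intro x hx y hy hxy
    obtain ⟨g, hg, rfl⟩ := htr x hx
    have hyE : g⁻¹ • y ∈ E := by
      simp only [E, U, Finset.mem_erase, Finset.mem_univ, and_true] at hy ⊢
      exact ⟨fun he => hxy (by rw [← he, smul_inv_smul]), hne_a g⁻¹ (inv_mem hg) y hy⟩
    by_cases hyΔ : g⁻¹ • y ∈ Δ
    · left
      simp only [Δ, Finset.mem_filter, Finset.mem_univ, true_and] at hyΔ
      have := hinv g hg _ _ hyΔ
      rwa [smul_inv_smul] at this
    · right
      have : g⁻¹ • y ∈ In := hIneq ▸ Finset.mem_sdiff.2 ⟨hyE, hyΔ⟩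
      simp only [In, Finset.mem_filter, Finset.mem_univ, true_and] at this
      have := hinv g hg _ _ this
      rwa [smul_inv_smul] at this
  have hkpos : 0 < k := by omega
  have hcommon : ∀ (R' : Ω → Ω → Prop),
      (∀ g ∈ fix (G := G) {a}, ∀ x y, (R' (g • x) (g • y) ↔ R' x y)) → ∀ x y, R x y →
      (Finset.univ.filter fun u => R' x u ∧ R' y u).card
        = (Finset.univ.filter fun u => R' b u ∧ R' z u).card := by
    rintro R' hR' x y ⟨h, hh, rfl, rfl⟩
    refine Finset.card_bij (fun u _ => h⁻¹ • u) (fun u hu => ?_) (fun _ _ _ _ e => smul_left_cancel _ e)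
      (fun u hu => ⟨h • u, ?_, inv_smul_smul h u⟩)
    · simp only [Finset.mem_filter, Finset.mem_univ, true_and] at hu ⊢
      rw [← hR' h hh, smul_inv_smul, ← hR' h hh z, smul_inv_smul]
      exact hu
    · simp only [Finset.mem_filter, Finset.mem_univ, true_and] at hu ⊢
      rw [hR' h hh, hR' h hh]
      exact hu
  have hlam := common_count R R U k _ hkpos hmem hout hmem
    (fun x hx => (hin x hx).trans hkk) hirr htot hasym ⟨b, hbU⟩ (hcommon R hinv')
  have hmu := common_count R (fun x u => R u x) U k _ hkpos hmem hout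
    (fun x u h => (hmem u x h).symm) hout hirr htot hasym ⟨b, hbU⟩
    (hcommon (fun x u => R u x) (fun g hg x u => hinv' g hg u x))
  -- an element of `K` moving a point
  obtain ⟨x, hx⟩ := C.moved
  rw [C.hF] at hx
  push Not at hx
  obtain ⟨g, hgK, hgx⟩ := hx
  have hga : g ∈ fix (G := G) {a} := C.K_le_fix (Finset.singleton_subset_iff.2 ha) hgK
  have hxU : x ∈ U := by
    refine Finset.mem_erase.2 ⟨?_, Finset.mem_univ _⟩
    rintro rfl; exact hgx (hfa g hga)
  have hgxU : g • x ∈ U :=
    Finset.mem_erase.2 ⟨hne_a g hga x (Finset.mem_erase.1 hxU).1, Finset.mem_univ _⟩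
  have hcount : ∀ p q : Ω, p ∈ U → q ∈ U → R p q →
      (∀ c ∈ C.F.erase a, (R p c ↔ R q c) ∧ c ≠ p) → False := by
    intro p q hp hq hpq hall
    have hsub : C.F.erase a ⊆ (Finset.univ.filter fun u => R p u ∧ R q u) ∪
        (Finset.univ.filter fun u => R u p ∧ R u q) := by
      intro c hc
      obtain ⟨hiff, hcp⟩ := hall c hc
      have hcU : c ∈ U := Finset.mem_erase.2 ⟨(Finset.mem_erase.1 hc).1, Finset.mem_univ _⟩
      simp only [Finset.mem_union, Finset.mem_filter, Finset.mem_univ, true_and]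
      rcases htot p hp c hcU hcp.symm with h | h
      · exact Or.inl ⟨h, hiff.1 h⟩
      · right
        refine ⟨h, ?_⟩
        have hcq : c ≠ q := by rintro rfl; exact hasym _ _ h hpq
        rcases htot q hq c hcU hcq.symm with h' | h'
        · exact absurd (hiff.2 h') (hasym _ _ h)
        · exact h'
    have h1 := (Finset.card_le_card hsub).trans (Finset.card_union_le _ _)
    rw [Finset.card_erase_of_mem ha] at h1
    have e1 := hcommon R hinv' p q hpq
    have e2 := hcommon (fun x u => R u x) (fun g hg x u => hinv' g hg u x) p q hpq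
    omega
  have hiff : ∀ c ∈ C.F.erase a, (R x c ↔ R (g • x) c) := by
    intro c hc
    have := hinv' g hga x c
    rw [(C.hF c).1 (Finset.mem_erase.1 hc).2 g hgK] at this
    exact this.symm
  rcases htot x hxU (g • x) hgxU (Ne.symm hgx) with h | h
  · refine hcount x (g • x) hxU hgxU h fun c hc => ⟨hiff c hc, ?_⟩
    rintro rfl
    exact hgx ((C.hF _).1 (Finset.mem_erase.1 hc).2 g hgK)
  · refine hcount (g • x) x hgxU hxU h fun c hc => ⟨(hiff c hc).symm, ?_⟩
    rintro rfl
    refine hgx (smul_left_cancel g ?_)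
    exact (C.hF _).1 (Finset.mem_erase.1 hc).2 g hgK

end Ctx

end Cfsg.Agent.HalfFixed36
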