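import Cfsg.Agent.Lib.HalfFixed36.Basic

/-!
First consequences: a minimal counterexample has `n = 2 f` and is doubly transitive; transfer lemmas for
multiply transitive groups.
-/

set_option autoImplicit false
set_option linter.unusedSectionVars false
set_option linter.style.haveILetI false

open scoped Pointwise

namespace Cfsg.Agent.HalfFixed36

namespace Ctx

variable {G Ω : Type} [Group G] [MulAction G Ω] [Fintype Ω] [DecidableEq Ω] (C : Ctx G Ω)

/-- `i`-fold transitivity -/
def T (G : Type) {Ω : Type} [Group G] [MulAction G Ω] [DecidableEq Ω] (i : ℕ) : Prop :=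
  ∀ Y : Finset Ω, Y.card < i → ∀ z w : Ω, z ∉ Y → w ∉ Y → ∃ h ∈ fix (G := G) Y, h • z = w

lemma exists_map_finset {i : ℕ} (hT : T G i (Ω := Ω)) :
    ∀ j ≤ i, ∀ S S' : Finset Ω, S.card = j → S'.card = j → ∃ g : G, g • S = S' := by
  intro j
  induction j with
  | zero =>
    intro _ S S' hS hS'
    rw [Finset.card_eq_zero] at hS hS'
    exact ⟨1, by rw [hS, hS', one_smul]⟩
  | succ j ihj =>
    intro hji S S' hS hS'
    obtain ⟨a, ha⟩ := Finset.card_pos.1 (by omega : 0 < S.card)
    obtain ⟨b, hb⟩ := Finset.card_pos.1 (by omega : 0 < S'.card)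
    have hS'' : (S'.erase b).card = j := by rw [Finset.card_erase_of_mem hb]; omega
    obtain ⟨g, hg⟩ := ihj (by omega) (S.erase a) (S'.erase b)
      (by rw [Finset.card_erase_of_mem ha]; omega) hS''
    have hga : g • a ∉ S'.erase b := by
      rw [← hg, Finset.smul_mem_smul_finset_iff]; simp
    obtain ⟨h, hh, hhb⟩ := hT (S'.erase b) (by omega) (g • a) b hga (by simp)
    refine ⟨h * g, ?_⟩
    rw [← Finset.insert_erase ha, Finset.smul_finset_insert, mul_smul, mul_smul, hg,
      fix_smul_finset hh, hhb, Finset.insert_erase hb]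

lemma exists_map_pair {i : ℕ} (hT : T G i (Ω := Ω)) {X : Finset Ω} (hX : X.card + 2 ≤ i)
    {b c b' c' : Ω} (hbc : b ≠ c) (hbc' : b' ≠ c') (hb : b ∉ X) (hc : c ∉ X) (hb' : b' ∉ X)
    (hc' : c' ∉ X) : ∃ h ∈ fix (G := G) X, h • b = b' ∧ h • c = c' := by
  obtain ⟨h1, hh1, e1⟩ := hT X (by omega) b b' hb hb'
  have hc1X : h1 • c ∉ X := fun h => hc (by
    rw [← fix_smul_finset hh1, Finset.smul_mem_smul_finset_iff] at h; exact h)
  have hcb : h1 • c ≠ b' := fun h => hbc (smul_left_cancel h1 (e1.trans h.symm))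
  obtain ⟨h2, hh2, e2⟩ := hT (insert b' X) (by rw [Finset.card_insert_of_notMem hb']; omega)
    (h1 • c) c' (by simp [hcb, hc1X]) (by simp [Ne.symm hbc', hc'])
  have hh2X : h2 ∈ fix (G := G) X := fix_anti (Finset.subset_insert _ _) hh2
  refine ⟨h2 * h1, mul_mem hh2X hh1, ?_, ?_⟩
  · rw [mul_smul, e1]; exact mem_fix.1 hh2 b' (Finset.mem_insert_self _ _)
  · rw [mul_smul, e2]

lemma exists_translate {i : ℕ} (hT : T G i (Ω := Ω)) (hi : i ≤ C.F.card) {S : Finset Ω}
    (hS : S.card ≤ i) : ∃ g : G, S ⊆ g • C.F := by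
  obtain ⟨S0, hS0, hS0c⟩ := Finset.exists_subset_card_eq (hS.trans hi)
  obtain ⟨g, hg⟩ := exists_map_finset hT S.card hS S0 S hS0c rfl
  exact ⟨g, hg ▸ Finset.smul_finset_subset_smul_finset hS0⟩

lemma F_nonempty : C.F.Nonempty := by
  rw [← Finset.card_pos]
  obtain ⟨z, -⟩ := C.moved
  have := C.big
  have : 0 < Fintype.card Ω := Fintype.card_pos_iff.2 ⟨z⟩
  omega

lemma exists_translate_mem (z : Ω) : ∃ g : G, z ∈ g • C.F := by
  obtain ⟨a, ha⟩ := C.F_nonempty
  haveI := C.trans
  obtain ⟨g, hg⟩ := MulAction.exists_smul_eq G a z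
  exact ⟨g, hg ▸ Finset.smul_mem_smul_finset ha⟩

/-- the set of all translates -/
noncomputable def translates : Finset (Finset Ω) :=
  open Classical in Finset.univ.filter fun B => ∃ g : G, g • C.F = B

lemma mem_translates {B : Finset Ω} : B ∈ C.translates ↔ ∃ g : G, g • C.F = B := by
  classical
  simp [translates]

lemma smul_mem_translates {B : Finset Ω} (g : G) (hB : B ∈ C.translates) :
    g • B ∈ C.translates := by
  obtain ⟨g', rfl⟩ := C.mem_translates.1 hB
  exact C.mem_translates.2 ⟨g * g', mul_smul g g' _⟩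

lemma card_mem_translates (a y : Ω) :
    (C.translates.filter fun B => a ∈ B).card = (C.translates.filter fun B => y ∈ B).card := by
  haveI := C.trans
  obtain ⟨g, rfl⟩ := MulAction.exists_smul_eq G a y
  refine Finset.card_bij (fun B _ => g • B) (fun B hB => ?_) (fun B _ B' _ h => ?_) (fun B hB => ?_)
  · rw [Finset.mem_filter] at hB ⊢
    exact ⟨C.smul_mem_translates g hB.1, Finset.smul_mem_smul_finset hB.2⟩
  · exact smul_left_cancel g h
  · rw [Finset.mem_filter] at hB
    refine ⟨g⁻¹ • B, Finset.mem_filter.2 ⟨C.smul_mem_translates _ hB.1, ?_⟩, smul_inv_smul g B⟩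
    rw [← Finset.smul_mem_smul_finset_iff g, smul_inv_smul]
    exact hB.2

lemma D_singleton_eq {a y : Ω} (hy : y ∈ C.D {a}) : C.D {y} = C.D {a} := by
  refine Finset.Subset.antisymm (C.D_subset_of_subset (by simpa using hy))
    (C.D_subset_of_subset ?_)
  rw [Finset.singleton_subset_iff, C.mem_D]
  intro g hg
  rw [Finset.singleton_subset_iff] at hg
  have hsub : (C.translates.filter fun B => a ∈ B) ⊆ C.translates.filter fun B => y ∈ B := by
    intro B hB
    rw [Finset.mem_filter] at hB ⊢
    obtain ⟨g', rfl⟩ := C.mem_translates.1 hB.1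
    exact ⟨hB.1, C.D_subset_smul (Finset.singleton_subset_iff.2 hB.2) hy⟩
  have heq := Finset.eq_of_subset_of_card_le hsub (C.card_mem_translates a y).ge
  have hmem : g • C.F ∈ C.translates.filter fun B => y ∈ B :=
    Finset.mem_filter.2 ⟨C.mem_translates.2 ⟨g, rfl⟩, hg⟩
  rw [← heq, Finset.mem_filter] at hmem
  exact hmem.2

lemma smul_D_singleton (g : G) (a : Ω) : g • C.D {a} = C.D {g • a} := by
  rw [← C.D_smul, Finset.smul_finset_singleton]

/-- the flat of a point is trivial -/
lemma D_singleton (a : Ω) : C.D {a} = {a} := by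
  classical
  haveI := C.trans
  have hmemself : ∀ z : Ω, z ∈ C.D {z} := fun z => C.subset_D _ (Finset.mem_singleton_self z)
  have hd : ∀ z : Ω, (C.D {z}).card = (C.D {a}).card := by
    intro z
    obtain ⟨g, rfl⟩ := MulAction.exists_smul_eq G a z
    rw [← C.smul_D_singleton, Finset.card_smul_finset]
  by_contra hne
  have h2 : 2 ≤ (C.D {a}).card := by
    by_contra hlt
    refine hne (Finset.eq_of_subset_of_card_le (C.subset_D _) ?_).symm
    rw [Finset.card_singleton]; omega
  -- the quotient action on the classes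
  let Ω' := ↥(MulAction.orbit G (C.D {a}))
  haveI : Fintype Ω' := Fintype.ofFinite _
  let π : Ω → Ω' := fun z => ⟨C.D {z}, by
    obtain ⟨g, hg⟩ := MulAction.exists_smul_eq G a z
    exact ⟨g, by rw [← hg]; exact C.smul_D_singleton g a⟩⟩
  have hπ : ∀ (z : Ω) (B : Ω'), π z = B ↔ z ∈ (B : Finset Ω) := by
    intro z B
    constructor
    · rintro rfl; exact hmemself z
    · intro hz
      obtain ⟨g, hg⟩ := B.2
      have hg' : g • C.D {a} = (B : Finset Ω) := hg
      rw [C.smul_D_singleton] at hg'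
      refine Subtype.ext ?_
      show C.D {z} = (B : Finset Ω)
      rw [← hg'] at hz ⊢
      exact C.D_singleton_eq hz
  have hBcard : ∀ B : Ω', (B : Finset Ω).card = (C.D {a}).card := by
    intro B
    obtain ⟨g, hg⟩ := B.2
    rw [← (show g • C.D {a} = (B : Finset Ω) from hg), Finset.card_smul_finset]
  have hn : Fintype.card Ω = Fintype.card Ω' * (C.D {a}).card := by
    have h := Finset.card_eq_sum_card_fiberwise (s := (Finset.univ : Finset Ω))
      (t := (Finset.univ : Finset Ω')) (f := π) (fun z _ => Finset.mem_univ _)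
    rw [Finset.card_univ] at h
    rw [h, Finset.sum_congr rfl (g := fun _ => (C.D {a}).card) (fun B _ => ?_), Finset.sum_const,
      smul_eq_mul, Finset.card_univ]
    rw [← hBcard B]
    congr 1
    ext z
    simp [hπ z B]
  let F' : Finset Ω' := Finset.univ.filter fun B : Ω' => (B : Finset Ω) ⊆ C.F
  have hF : C.F.card = F'.card * (C.D {a}).card := by
    have h := Finset.card_eq_sum_card_fiberwise (s := C.F) (t := F') (f := π) (fun z hz => by
      simp only [F', Finset.coe_filter, Finset.mem_univ, true_and, Set.mem_ofPred_eq]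
      exact C.D_subset_F (Finset.singleton_subset_iff.2 hz))
    rw [h, Finset.sum_congr rfl (g := fun _ => (C.D {a}).card) (fun B hB => ?_), Finset.sum_const,
      smul_eq_mul]
    simp only [F', Finset.mem_filter, Finset.mem_univ, true_and] at hB
    rw [← hBcard B]
    congr 1
    ext z
    simp only [Finset.mem_filter, hπ z B]
    exact ⟨fun h => h.2, fun h => ⟨hB h, h⟩⟩
  have hlt : Fintype.card Ω' < Fintype.card Ω := by
    have hpos : 0 < Fintype.card Ω' := Fintype.card_pos_iff.2 ⟨π a⟩
    rw [hn]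
    exact lt_mul_of_one_lt_right hpos (by omega)
  have key : 2 * F'.card + 1 ≤ Fintype.card Ω' := by
    refine C.ih G Ω' hlt ?_ C.K F' (fun B => ?_) ?_ C.pro
    · exact MulAction.IsPretransitive.mk fun x y => by
        obtain ⟨h1, e1⟩ := x.2
        obtain ⟨h2, e2⟩ := y.2
        have e1' : h1 • C.D {a} = (x : Finset Ω) := e1
        have e2' : h2 • C.D {a} = (y : Finset Ω) := e2
        refine ⟨h2 * h1⁻¹, Subtype.ext ?_⟩
        rw [MulAction.orbit.coe_smul, ← e1', mul_smul, inv_smul_smul, e2']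
    · simp only [F', Finset.mem_filter, Finset.mem_univ, true_and]
      constructor
      · intro hB k hk
        exact Subtype.ext (fix_smul_finset (C.K_le_fix hB hk))
      · intro hfix z hz
        by_contra hzF
        obtain ⟨g, hg⟩ := C.exists_translate_mem z
        refine C.blocking hzF (g := g) fun k hk => ?_
        have hkz : k • z ∈ (B : Finset Ω) := by
          have := congrArg Subtype.val (hfix k hk)
          rw [MulAction.orbit.coe_smul] at this
          rw [← this]
          exact Finset.smul_mem_smul_finset hz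
        rw [← (hπ z B).2 hz] at hkz
        exact C.D_subset_smul (Finset.singleton_subset_iff.2 hg) hkz
    · obtain ⟨z, hz⟩ := C.moved
      refine ⟨π z, fun h => hz ?_⟩
      simp only [F', Finset.mem_filter, Finset.mem_univ, true_and] at h
      exact h (hmemself z)
  have hbig := C.big
  rw [hn, hF] at hbig
  nlinarith

/-- `n = 2 f` -/
lemma card_eq : Fintype.card Ω = 2 * C.F.card ∧
    ∀ a ∈ C.F, ∀ z w : Ω, z ≠ a → w ≠ a → ∃ h ∈ fix (G := G) {a}, h • z = w := by
  classical
  have hbig := C.big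
  have hW : ∀ a ∈ C.F, ∀ W : Finset Ω, W.Nonempty → W ⊆ Finset.univ.erase a →
      (∀ h ∈ fix (G := G) {a}, ∀ z ∈ W, h • z ∈ W) → 2 * (W ∩ C.F).card + 1 ≤ W.card :=
    fun a ha W hne hsub hinv => C.deficit (Finset.singleton_subset_iff.2 ha)
      (Finset.singleton_nonempty a) W hne (fun z hz hzD => by
        rw [C.D_singleton, Finset.mem_singleton] at hzD
        exact (Finset.mem_erase.1 (hsub hz)).1 hzD) hinv
  have herase : ∀ a ∈ C.F, (Finset.univ.erase a ∩ C.F).card = C.F.card - 1 ∧
      (Finset.univ.erase a).card = Fintype.card Ω - 1 := fun a ha =>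
    ⟨by rw [Finset.erase_inter, Finset.univ_inter, Finset.card_erase_of_mem ha],
     by rw [Finset.card_erase_of_mem (Finset.mem_univ a), Finset.card_univ]⟩
  have heq : Fintype.card Ω = 2 * C.F.card := by
    obtain ⟨a, ha⟩ := C.F_nonempty
    obtain ⟨z, hz⟩ := C.moved
    have h := hW a ha (Finset.univ.erase a) ⟨z, by simp; exact fun h => hz (h ▸ ha)⟩ subset_rfl
      (fun h hh w hw => by
        rw [Finset.mem_erase] at hw ⊢
        refine ⟨fun he => hw.1 (smul_left_cancel h ?_), Finset.mem_univ _⟩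
        rw [he, mem_fix.1 hh a (Finset.mem_singleton_self a)])
    rw [(herase a ha).1, (herase a ha).2] at h
    have := Finset.card_pos.2 C.F_nonempty
    omega
  refine ⟨heq, fun a ha z w hz hw => ?_⟩
  let Δ : Finset Ω := Finset.univ.filter fun x => ∃ h ∈ fix (G := G) {a}, h • z = x
  by_contra hcon
  have hwΔ : w ∉ Δ := fun h => hcon (by simpa [Δ] using h)
  have hzΔ : z ∈ Δ := by simp [Δ]; exact ⟨1, one_mem _, one_smul _ _⟩
  have haΔ : ∀ x ∈ Δ, x ≠ a := by
    intro x hx
    simp only [Δ, Finset.mem_filter, Finset.mem_univ, true_and] at hx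
    obtain ⟨h, hh, rfl⟩ := hx
    intro he
    exact hz (smul_left_cancel h (he.trans (mem_fix.1 hh a (Finset.mem_singleton_self a)).symm))
  have hΔinv : ∀ h ∈ fix (G := G) {a}, ∀ x ∈ Δ, h • x ∈ Δ := by
    intro h hh x hx
    simp only [Δ, Finset.mem_filter, Finset.mem_univ, true_and] at hx ⊢
    obtain ⟨h', hh', rfl⟩ := hx
    exact ⟨h * h', mul_mem hh hh', mul_smul _ _ _⟩
  have hsub : Δ ⊆ Finset.univ.erase a := fun x hx => by simp [haΔ x hx]
  have h1 := hW a ha Δ ⟨z, hzΔ⟩ hsub hΔinv
  have h2 := hW a ha (Finset.univ.erase a \ Δ)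
    ⟨w, Finset.mem_sdiff.2 ⟨by simp [hw], hwΔ⟩⟩ Finset.sdiff_subset
    (fun h hh x hx => by
      rw [Finset.mem_sdiff, Finset.mem_erase] at hx ⊢
      refine ⟨⟨fun he => hx.1.1 (smul_left_cancel h
        (by rw [he, mem_fix.1 hh a (Finset.mem_singleton_self a)])), Finset.mem_univ _⟩,
        fun hx' => hx.2 ?_⟩
      simpa using hΔinv h⁻¹ (inv_mem hh) _ hx')
  have hc1 : (Finset.univ.erase a ∩ C.F).card
      = (Δ ∩ C.F).card + ((Finset.univ.erase a \ Δ) ∩ C.F).card := by
    rw [← Finset.card_union_of_disjoint, ← Finset.union_inter_distrib_right,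
      Finset.union_sdiff_of_subset hsub]
    exact (Finset.disjoint_sdiff).mono Finset.inter_subset_left Finset.inter_subset_left
  have hc2 : Δ.card + (Finset.univ.erase a \ Δ).card = (Finset.univ.erase a).card := by
    rw [Finset.card_sdiff_of_subset hsub]
    have := Finset.card_le_card hsub
    omega
  rw [(herase a ha).1] at hc1
  rw [(herase a ha).2] at hc2
  omega

lemma card_compl : (C.Fᶜ).card = C.F.card := by
  rw [Finset.card_compl, C.card_eq.1]; omega

include C in
lemma T_two : T G 2 (Ω := Ω) := by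
  intro Y hY z w hz hw
  haveI := C.trans
  rcases Nat.lt_or_ge Y.card 1 with h0 | h1
  · have : Y = ∅ := Finset.card_eq_zero.1 (by omega)
    subst this
    obtain ⟨g, hg⟩ := MulAction.exists_smul_eq G z w
    exact ⟨g, mem_fix.2 (fun y hy => absurd hy (Finset.notMem_empty y)), hg⟩
  · obtain ⟨x, rfl⟩ := Finset.card_eq_one.1 (by omega : Y.card = 1)
    rw [Finset.mem_singleton] at hz hw
    obtain ⟨a, ha⟩ := C.F_nonempty
    obtain ⟨g, rfl⟩ := MulAction.exists_smul_eq G a x
    obtain ⟨h, hh, e⟩ := C.card_eq.2 a ha (g⁻¹ • z) (g⁻¹ • w)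
      (fun h => hz (by rw [← h, smul_inv_smul]))
      (fun h => hw (by rw [← h, smul_inv_smul]))
    refine ⟨g * h * g⁻¹, mem_fix.2 fun y hy => ?_, ?_⟩
    · rw [Finset.mem_singleton] at hy
      subst hy
      rw [mul_smul, mul_smul, inv_smul_smul, mem_fix.1 hh a (Finset.mem_singleton_self a)]
    · rw [mul_smul, mul_smul, e, smul_inv_smul]

/-- `f`-fold transitivity is absurd: the complement of `F` would be a translate. -/
lemma not_T (hT : T G C.F.card (Ω := Ω)) : False := by
  obtain ⟨g, hg⟩ := exists_map_finset hT C.F.card le_rfl C.F C.Fᶜ rfl C.card_compl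
  obtain ⟨z, hz⟩ := C.moved
  refine C.blocking hz (g := g) fun k hk => ?_
  rw [hg, Finset.mem_compl]
  intro hkz
  refine hz ?_
  have := (C.hF _).1 hkz k⁻¹ (inv_mem hk)
  rw [inv_smul_smul] at this
  rw [this]
  exact hkz

end Ctx

end Cfsg.Agent.HalfFixed36
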